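import Cfsg.Agent.Lib.Recog.FiM22.Labelling

set_option autoImplicit false
set_option maxRecDepth 20000

/-!
Two members noncommuting with the base share their commuting labels (owner: helper16; arguments of helper13's
normalisation file, repeated to avoid importing the classification of the candidate sets).
-/

namespace CfsgLib.Recog.FiM22.Factor

open Cfsg CfsgLib.ThreeTrans

universe u

variable {G : Type u} [Group G] [Finite G] {D : Set G} {a : G}

theorem exists_common (B : Base D a) {lab : ℕ → G} (L : Labelled D a lab) {b : G} (hb : b ∈ D) (hab : ¬ Commute a b) :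
    ∃ r, r < 693 ∧ Commute b (lab r) := by
  obtain ⟨e, he⟩ := B.nbrs_nonempty
  obtain ⟨f, hf, haf, hef⟩ := B.exists_far he
  obtain ⟨g, hg, hgf⟩ := B.setting.noncommute_transitive B.mem hf haf hb hab
  have hga : g * a * g⁻¹ = a := by rw [hg.eq, mul_inv_cancel_right]
  have hmem : g * e * g⁻¹ ∈ nbrs D a := by
    refine ⟨B.grp.2.1 g e he.1, fun h => he.2.1 (mul_left_cancel (mul_right_cancel (h.trans hga.symm))), ?_⟩
    have := (commute_conj_iff (g := g)).2 he.2.2
    rwa [hga] at this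
  obtain ⟨r, hr, er⟩ := L.surj _ hmem
  refine ⟨r, hr, ?_⟩
  rw [er, ← hgf, commute_conj_iff]
  exact hef.symm

theorem local_aut (B : Base D a) {lab : ℕ → G} (L : Labelled D a lab) {b : G} (hb : b ∈ D) (hab : ¬ Commute a b)
    {r : ℕ} (hr : r < 693) (hc : Commute b (lab r)) :
    ∃ (g : G) (τ : ℕ → ℕ), IsAut τ ∧ g * lab r * g⁻¹ = a ∧
      ∃ p q, p < 693 ∧ q < 693 ∧ g * a * g⁻¹ = lab p ∧ g * b * g⁻¹ = lab q ∧ com p q = false ∧ τ p = 0 ∧ τ q = second := by
  have he := L.mem r hr
  obtain ⟨g, hg⟩ := B.prim.1 (lab r) he.1 a B.mem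
  have hga : g * a * g⁻¹ ∈ nbrs D a := by
    refine ⟨B.grp.2.1 g a B.mem, fun h => he.2.1 (mul_left_cancel (mul_right_cancel (hg.trans h.symm))), ?_⟩
    have := (commute_conj_iff (g := g)).2 he.2.2.symm
    rwa [hg] at this
  have hgb : g * b * g⁻¹ ∈ nbrs D a := by
    refine ⟨B.grp.2.1 g b hb, fun h => hab ?_, ?_⟩
    · rw [mul_left_cancel (mul_right_cancel (h.trans hg.symm))]
      exact he.2.2
    · have := (commute_conj_iff (g := g)).2 hc.symm
      rwa [hg] at this
  obtain ⟨p, hp, ep⟩ := L.surj _ hga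
  obtain ⟨q, hq, eq⟩ := L.surj _ hgb
  have hpq : com p q = false := Bool.eq_false_iff.2 fun h => hab (by
    have := (L.commute_iff hp hq).2 h
    rwa [ep, eq, commute_conj_iff] at this)
  obtain ⟨τ, hτ, h0, h1⟩ := exists_aut_pair hp hq hpq
  exact ⟨g, τ, hτ, hg, p, q, hp, hq, ep.symm, eq.symm, hpq, h0, h1⟩

/-- Only two members have a given set of commuting labels. -/
theorem two_in_fibre (B : Base D a) {lab : ℕ → G} (L : Labelled D a lab) {b b' : G} (hb : b ∈ D) (hab : ¬ Commute a b)
    (hb' : b' ∈ D) (hab' : ¬ Commute a b') (h : ∀ r < 693, Commute b (lab r) → Commute b' (lab r)) :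
    b' = b ∨ b' = a * b * a := by
  obtain ⟨r, hr, hc⟩ := exists_common B L hb hab
  obtain ⟨g, τ, hτ, hg, p, q, hp, hq, ep, eq, hpq, -, -⟩ := local_aut B L hb hab hr hc
  have hgb' : g * b' * g⁻¹ ∈ nbrs D a := by
    refine ⟨B.grp.2.1 g b' hb', fun e => hab' ?_, ?_⟩
    · rw [mul_left_cancel (mul_right_cancel (e.trans hg.symm))]
      exact (L.mem r hr).2.2
    · rw [← hg, commute_conj_iff]; exact (h r hr hc).symm
  obtain ⟨z, hz, ez⟩ := L.surj _ hgb'
  have hline := on_line hp hq hz hpq fun t ht hpt hqt => by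
    obtain ⟨n0, c0⟩ := adj_iff.1 hpt
    obtain ⟨n1, c1⟩ := adj_iff.1 hqt
    have htm := L.mem t ht
    have cp : Commute (lab p) (lab t) := (L.commute_iff hp ht).2 c0
    have cq : Commute (lab q) (lab t) := (L.commute_iff hq ht).2 c1
    have hy : g⁻¹ * lab t * g ∈ nbrs D a := by
      refine ⟨by simpa using B.grp.2.1 g⁻¹ _ htm.1, fun e => n0 (L.inj p hp t ht ?_), ?_⟩
      · rw [← ep, ← e]; group
      · rw [← commute_conj_iff (g := g), conj_cancel, ep]; exact cp
    obtain ⟨y, hy', ey⟩ := L.surj _ hy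
    have hby : Commute b (lab y) := by rw [ey, ← commute_conj_iff (g := g), conj_cancel, eq]; exact cq
    have := h y hy' hby
    rw [ey, ← commute_conj_iff (g := g), conj_cancel] at this
    exact (L.commute_iff hz ht).1 (by rw [ez]; exact this)
  rcases hline with rfl | rfl | rfl
  · exact absurd ((mul_left_cancel (mul_right_cancel (ez.symm.trans ep.symm)) : b' = a) ▸ Commute.refl a) hab'
  · exact Or.inl (mul_left_cancel (mul_right_cancel (ez.symm.trans eq.symm)))
  · right
    have e : g * b' * g⁻¹ = g * (b * a * b) * g⁻¹ := by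
      rw [← ez, L.map q hq p hp, ← eq, ← ep]
      calc g * b * g⁻¹ * (g * a * g⁻¹) * (g * b * g⁻¹)⁻¹ = g * (b * a * b⁻¹) * g⁻¹ := by group
        _ = _ := by rw [inv_eq B.set3 hb]
    rw [mul_left_cancel (mul_right_cancel e)]
    exact braid B.set3 hb B.mem fun h' => hab h'.symm

end CfsgLib.Recog.FiM22.Factor
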