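import Cfsg.Agent.Lib.Recog.FiM22.Factor.Type22
import Cfsg.Agent.Lib.Recog.FiM22.Factor.Fibre

set_option autoImplicit false
set_option maxRecDepth 20000

/-!
Unique and double factorisations of products of commuting members in the types M(22), M(23), M(24)
(owner: helper16).
-/

namespace CfsgLib.Recog.FiM22.Factor

open Cfsg CfsgLib.ThreeTrans CfsgLib.Recog.SporBound.Fi22U6

universe u

variable {G : Type u} [Group G] {D : Set G}

theorem diff_one (hS : IsThreeTranspositionSet D) : D \ {1} = D :=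
  Set.sdiff_singleton_eq_self fun h => ne_one hS h rfl

theorem trans_of_prim (hD : IsThreeTranspositionGroup D) (hp : IsPrimitiveUnderConj D) : Trans D := ⟨hD, hp.1⟩

variable [Finite G]

/-- Type M(23) gives separation and no short relations. -/
theorem m23_noRel (h : IsOfTypeM23 G D) (T : Trans D) {k : ℕ} (h3 : 3 ≤ k) (h6 : k ≤ 6) : NoRel D k := by
  obtain ⟨-, d, hd, c, -, -, h22, -⟩ := h
  obtain ⟨a, b, ⟨P⟩⟩ := exists_pre h22 (secGrp T.grp)
  have hnc : ∀ e ∈ nb D d, Noncentral D d e := fun e he => noncentral_of_sep T hd P.sep ⟨a, P.mema⟩ he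
  obtain ⟨j, rfl⟩ : ∃ j, k = j + 1 := ⟨k - 1, by omega⟩
  refine noRel_succ T hd hnc ?_
  rcases Nat.lt_or_ge j 3 with hj | hj
  · obtain rfl : j = 2 := by omega
    exact noRel_two P.grp.1
  · exact P.noRel hj (by omega)

/-- Type M(23) gives separation. -/
theorem m23_sep (h : IsOfTypeM23 G D) (T : Trans D) : Sep D := by
  obtain ⟨-, d, hd, c, -, -, h22, -⟩ := h
  obtain ⟨a, b, ⟨P⟩⟩ := exists_pre h22 (secGrp T.grp)
  exact sep_of_noncentral T hd fun e he => noncentral_of_sep T hd P.sep ⟨a, P.mema⟩ he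

theorem m24_noRel (hD : IsThreeTranspositionGroup D) (hp : IsPrimitiveUnderConj D) (h : IsOfTypeM24 G D)
    {k : ℕ} (h4 : 4 ≤ k) (h7 : k ≤ 7) : NoRel D k := by
  haveI : Fact (Nat.Prime 2) := ⟨Nat.prime_two⟩
  obtain ⟨-, d, hd, c, -, -, h23, -⟩ := h
  obtain ⟨-, q₁, hq₁, q₂, hq₂, hq, -⟩ := id h23
  obtain ⟨⟨e₀, he₀⟩, hm₀, rfl⟩ := hq₂
  have hm₀' : e₀ ∈ nb D d := hm₀
  have hw : ∃ p ∈ D, ∃ q ∈ D, p ≠ q ∧ Commute p q := ⟨d, hd, e₀, hm₀'.1, hm₀'.2.1.symm, hm₀'.2.2⟩
  have S : RankThree.Setting D :=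
    ⟨class_of_primitive hD hp, hp.2.1, hw, hp, pCore_le_center hD hp hw Nat.prime_two⟩
  have hconj : ∀ e ∈ nb D d, ∀ f ∈ nb D d, ∃ g ∈ Subgroup.closure (nb D d), g * e * g⁻¹ = f := by
    intro e he f hf
    obtain ⟨g, hg, hgf⟩ := S.commute_comp hd he.1 he.2.1 he.2.2 hf.1 hf.2.1 hf.2.2
    exact ⟨g, hg, hgf⟩
  have hnc : ∀ e ∈ nb D d, Noncentral D d e := by
    intro e he
    refine ⟨he, ?_⟩
    by_contra hno
    push Not at hno
    obtain ⟨g, hg, hge⟩ := hconj e he e₀ hm₀'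
    have : e₀ = e := by
      rw [← hge, ← (RankThree.commute_closure hno hg).eq, mul_inv_cancel_right]
    subst this
    have h1 := im_eq_one_of_central hm₀' hno
    refine hq ?_
    rw [show (QuotientGroup.mk ⟨e₀, he₀⟩ : SecG D d) = 1 from h1]
    exact Commute.one_right _
  have hsec : secSet D d \ {1} = secSet D d := by
    refine Set.sdiff_singleton_eq_self fun hm => ?_
    obtain ⟨⟨e, he⟩, hme, h1⟩ := hm
    exact (hnc e hme).im_ne_one h1
  have h23' : IsOfTypeM23 (SecG D d) (secSet D d \ {1}) := by rw [hsec]; exact h23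
  have T' : Trans (secSet D d \ {1}) := by
    refine ⟨secGrp hD, fun p hp' q hq' => ?_⟩
    obtain ⟨e, he, rfl⟩ := exists_of_mem_sec hp'
    obtain ⟨f, hf, rfl⟩ := exists_of_mem_sec hq'
    obtain ⟨g, hg, rfl⟩ := hconj e he.1 f hf.1
    exact ⟨QuotientGroup.mk ⟨g, hg⟩, rfl⟩
  obtain ⟨j, rfl⟩ : ∃ j, k = j + 1 := ⟨k - 1, by omega⟩
  exact noRel_succ (trans_of_prim hD hp) hd hnc (m23_noRel h23' T' (by omega) (by omega))

/-- The list of images of neighbours whose product is the member. -/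
theorem five {a b : G} (P : Pre D a b) {t : List G} (hl : ComList D (a :: t)) (hp : (a :: t).prod = 1) :
    ∃ l : List (SecG D a), ComList (secSet D a \ {1}) l ∧ l.prod = 1 ∧ l.length = t.length ∧
      ∀ i, ∀ (hi : i < t.length) (hm : t[i] ∈ nb D a), l[i]? = some (im hm) := by
  have hmem : ∀ x ∈ t, x ∈ nb D a := fun x hx =>
    ⟨hl.mem x (List.mem_cons_of_mem _ hx), fun e => (List.nodup_cons.1 hl.nodup).1 (e ▸ hx),
      hl.comm a List.mem_cons_self x (List.mem_cons_of_mem _ hx)⟩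
  let t' : List ↥(Subgroup.closure (nb D a)) := t.attach.map fun x => ⟨x.1, Subgroup.subset_closure (hmem x.1 x.2)⟩
  have hsub : t'.map Subtype.val = t := by simp [t', List.map_map, Function.comp_def]
  have hin : ∀ x ∈ t', (x : G) ∈ t := fun x hx => hsub ▸ List.mem_map.2 ⟨x, hx, rfl⟩
  refine ⟨t'.map (QuotientGroup.mk' _), ⟨?_, ?_, ?_⟩, ?_, by simp [t'], ?_⟩
  · rw [List.nodup_map_iff_inj_on (List.Nodup.of_map Subtype.val (hsub ▸ hl.tail.nodup))]
    intro x hx y hy e
    exact Subtype.ext (im_inj P.grp.1 (P.noncentral (hmem _ (hin x hx))) (hmem _ (hin y hy)) e)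
  · intro q hq
    obtain ⟨x, hx, rfl⟩ := List.mem_map.1 hq
    exact im_mem (P.noncentral (hmem _ (hin x hx)))
  · intro q hq r hr
    obtain ⟨x, hx, rfl⟩ := List.mem_map.1 hq
    obtain ⟨y, hy, rfl⟩ := List.mem_map.1 hr
    exact (show Commute x y from Subtype.ext (hl.tail.comm x (hin x hx) y (hin y hy)).eq).map _
  · rw [← map_list_prod]
    refine (QuotientGroup.eq_one_iff _).2 ?_
    have hv : ((t'.prod : ↥(Subgroup.closure (nb D a))) : G) = a := by
      rw [List.prod_cons] at hp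
      rw [Subgroup.val_list_prod, hsub, eq_inv_of_mul_eq_one_right hp, inv_eq P.grp.1 P.mema]
    rw [Subgroup.mem_center_iff]
    rintro ⟨y, hy⟩
    refine Subtype.ext ?_
    show y * (t'.prod : G) = (t'.prod : G) * y
    rw [hv]
    exact (RankThree.commute_closure (fun _ hz => hz.2.2) hy).eq.symm
  · intro i hi hm
    simp [t', im, hi]

theorem six_unique {a b : G} (P : Pre D a b) {p q u v w u' v' w' : G} (h : ComList D [a, p, q, u, v, w])
    (h1 : [a, p, q, u, v, w].prod = 1) (h' : ComList D [a, p, q, u', v', w'])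
    (h1' : [a, p, q, u', v', w'].prod = 1) : ∀ x ∈ [u', v', w'], x ∈ [u, v, w] := by
  obtain ⟨l, hl, hlp, hll, hli⟩ := five P h h1
  obtain ⟨l', hl', hlp', hll', hli'⟩ := five P h' h1'
  have hnb : ∀ {t : List G}, ComList D (a :: t) → ∀ x ∈ t, x ∈ nb D a := fun hc x hx =>
    ⟨hc.mem x (List.mem_cons_of_mem _ hx), fun e => (List.nodup_cons.1 hc.nodup).1 (e ▸ hx),
      hc.comm a List.mem_cons_self x (List.mem_cons_of_mem _ hx)⟩
  simp only [List.length_cons, List.length_nil] at hll hll'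
  obtain ⟨r, s, t₁, t₂, t₃, hr, hs, e, hlin⟩ := P.sec_rel hl (by omega) (by omega) hlp
  obtain ⟨r', s', t₁', t₂', t₃', hr', hs', e', hlin'⟩ := P.sec_rel hl' (by omega) (by omega) hlp'
  have get : ∀ {t : List G} {l : List (SecG D a)} {M : List Q6}, l.map P.iso = M →
      (∀ i, ∀ (hi : i < t.length) (hm : t[i] ∈ nb D a), l[i]? = some (im hm)) →
      ∀ i, ∀ (hi : i < t.length) (hm : t[i] ∈ nb D a), M[i]? = some (P.iso (im hm)) := by
    intro t l M hM hli i hi hm
    rw [← hM, List.getElem?_map, hli i hi hm, Option.map_some]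
  have E := get e hli
  have E' := get e' hli'
  have ep := E 0 (by simp) (hnb h p (by simp))
  have eq := E 1 (by simp) (hnb h q (by simp))
  have eu := E 2 (by simp) (hnb h u (by simp))
  have ev := E 3 (by simp) (hnb h v (by simp))
  have ew := E 4 (by simp) (hnb h w (by simp))
  have ep' := E' 0 (by simp) (hnb h' p (by simp))
  have eq' := E' 1 (by simp) (hnb h' q (by simp))
  have eu' := E' 2 (by simp) (hnb h' u' (by simp))
  have ev' := E' 3 (by simp) (hnb h' v' (by simp))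
  have ew' := E' 4 (by simp) (hnb h' w' (by simp))
  simp only [List.getElem?_cons_zero, List.getElem?_cons_succ, Option.some.injEq] at ep eq eu ev ew ep' eq' eu' ev' ew'
  have hrr : r' = r := T_inj hr' hr (ep'.trans ep.symm)
  have hss : s' = s := T_inj hs' hs (eq'.trans eq.symm)
  subst hrr hss
  obtain ⟨x₁, hx₁, f₁⟩ := hlin t₁ (by simp)
  obtain ⟨x₂, hx₂, f₂⟩ := hlin t₂ (by simp)
  obtain ⟨x₃, hx₃, f₃⟩ := hlin t₃ (by simp)
  have hinj : ∀ {x y : G} (hx : x ∈ nb D a) (hy : y ∈ nb D a), P.iso (im hx) = P.iso (im hy) → x = y :=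
    fun hx hy e => im_inj P.grp.1 (P.noncentral hx) hy (P.iso.injective e)
  have hn := h.nodup
  simp only [List.nodup_cons, List.mem_cons, List.not_mem_nil, or_false, not_or, List.nodup_nil, and_true] at hn
  have d12 : x₁ ≠ x₂ := fun e12 => hn.2.2.2.1.1 (hinj (hnb h u (by simp)) (hnb h v (by simp))
    (by rw [← eu, ← ev, f₁, f₂, e12]))
  have d13 : x₁ ≠ x₃ := fun e13 => hn.2.2.2.1.2 (hinj (hnb h u (by simp)) (hnb h w (by simp))
    (by rw [← eu, ← ew, f₁, f₃, e13]))
  have d23 : x₂ ≠ x₃ := fun e23 => hn.2.2.2.2.1 (hinj (hnb h v (by simp)) (hnb h w (by simp))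
    (by rw [← ev, ← ew, f₂, f₃, e23]))
  have hthree : ∀ A B C X : F4, A ≠ 0 → B ≠ 0 → C ≠ 0 → X ≠ 0 → A ≠ B → A ≠ C → B ≠ C →
      X = A ∨ X = B ∨ X = C := by decide +kernel
  have key : ∀ z ∈ [u', v', w'], ∀ t ∈ [t₁', t₂', t₃'], ∀ hz : z ∈ nb D a, T t = P.iso (im hz) → z ∈ [u, v, w] := by
    intro z _ t ht hz hzt
    obtain ⟨x, hx, fx⟩ := hlin' t ht
    rw [fx] at hzt
    rcases hthree x₁ x₂ x₃ x hx₁ hx₂ hx₃ hx d12 d13 d23 with rfl | rfl | rfl
    · rw [hinj hz (hnb h u (by simp)) (by rw [← hzt, ← eu, f₁])]; simp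
    · rw [hinj hz (hnb h v (by simp)) (by rw [← hzt, ← ev, f₂])]; simp
    · rw [hinj hz (hnb h w (by simp)) (by rw [← hzt, ← ew, f₃])]; simp
  intro x hx
  rcases (by simpa using hx : x = u' ∨ x = v' ∨ x = w') with rfl | rfl | rfl
  · exact key _ (by simp) t₁' (by simp) _ eu'
  · exact key _ (by simp) t₂' (by simp) _ ev'
  · exact key _ (by simp) t₃' (by simp) _ ew'

theorem six_exists (hp : IsPrimitiveUnderConj D) {a b : G} (P : Pre D a b) {p q : G} (hpm : p ∈ nb D a)
    (hqm : q ∈ nb D a) (hpq : p ≠ q) (hc : Commute p q) :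
    ∃ u v w : G, ComList D [a, p, q, u, v, w] ∧ [a, p, q, u, v, w].prod = 1 := by
  let B : Base D a :=
    { grp := P.grp
      prim := hp
      centre := P.centre
      mem := P.mema
      proj := P.iso.toMonoidHom.comp (QuotientGroup.mk' _)
      surj := P.iso.surjective.comp (QuotientGroup.mk'_surjective _)
      kerLe := fun x hx => (QuotientGroup.eq_one_iff x).1 (P.iso.map_eq_one_iff.1 hx) }
  obtain ⟨r, hr, hrp⟩ := P.img_T (P.noncentral hpm)
  obtain ⟨s, hs, hsq⟩ := P.img_T (P.noncentral hqm)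
  set A := vec (code r) with hA
  set C := vec (code s) with hC
  have hrs : r ≠ s := fun e => hpq (im_inj P.grp.1 (P.noncentral hpm) hqm (P.iso.injective (by rw [hrp, hsq, e])))
  have hTc : Commute (T r) (T s) := by
    rw [← hrp, ← hsq]
    exact ((im_commute P.grp.1 (P.noncentral hpm) hqm).2 hc).map P.iso.toMonoidHom
  have hAC : hf A C = 0 := hf_zero_of_commute hr hs hTc
  have hi := indep_points hr hs hrs
  have hiso : ∀ x y : F4, hf (A + x • C) (A + y • C) = 0 := fun x y => by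
    rw [hf_add_left, hf_add_right, hf_add_right, hf_smul_left, hf_smul_left, hf_smul_right, hf_smul_right,
      hf_conj A C, show hf A A = 0 from dot_iso hr, show hf C C = 0 from dot_iso hs, hAC]
    simp
  have hAx : ∀ x : F4, hf A (A + x • C) = 0 ∧ hf C (A + x • C) = 0 := fun x => by
    constructor <;>
      simp [hf_add_right, hf_smul_right, hf_conj A C, show hf A A = 0 from dot_iso hr,
        show hf C C = 0 from dot_iso hs, hAC]
  have hpt : ∀ x : F4, x ≠ 0 → ∃ (z : G) (hz : z ∈ nb D a) (t : ℕ) (_ : t < 693) (l : F4), l ≠ 0 ∧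
      A + x • C = l • vec (code t) ∧ P.iso (im hz) = T t ∧ P.iso (im hz) = PV (A + x • C) := by
    intro x hx
    have hne : A + x • C ≠ 0 := fun e => one_ne_zero (hi 1 x (by rw [one_smul]; exact e)).1
    obtain ⟨t, ht, l, hl, e⟩ := point_of hne (hiso x x)
    obtain ⟨z, hz, -, hzt⟩ := P.cover (fun _ => True) (fun _ _ _ => trivial) (P.noncentral hpm) trivial t ht
    refine ⟨z, hz.1, t, ht, l, hl, e, hzt, ?_⟩
    rw [hzt, e, PV, tsu_smul (dot_iso ht) hl]
    rfl
  have h2 : F4.ofNat4 2 ≠ 0 := ofNat4_ne_zero (by norm_num) (by norm_num)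
  have h3 : F4.ofNat4 3 ≠ 0 := ofNat4_ne_zero (by norm_num) (by norm_num)
  obtain ⟨u, hu, tu, htu, lu, hlu, eu, eTu, ePu⟩ := hpt 1 one_ne_zero
  obtain ⟨v, hv, tv, htv, lv, hlv, ev, eTv, ePv⟩ := hpt _ h2
  obtain ⟨w, hw, tw, htw, lw, hlw, ew, eTw, ePw⟩ := hpt _ h3
  have cmm : ∀ {z z' : G} (hz : z ∈ nb D a) (hz' : z' ∈ nb D a) {t t' : ℕ}, t < 693 → t' < 693 →
      P.iso (im hz) = T t → P.iso (im hz') = T t' → hf (vec (code t)) (vec (code t')) = 0 → Commute z z' := by
    intro z z' hz hz' t t' ht ht' e e' h0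
    refine (im_commute P.grp.1 (P.noncentral hz) hz').1 ?_
    have hcom : Commute (T t') (T t) := by
      rw [← com_iff ht' ht, com_def]
      have hd : dot (code t) (code t') = 0 := by
        have h1 := dot_spec (code t) (code t')
        exact (ofNat4_eq ⟨_, h1.1⟩).1.1 (h1.2.trans h0)
      rw [hd]; rfl
    rw [← e, ← e'] at hcom
    simpa using hcom.symm.map P.iso.symm.toMonoidHom
  have hz0 : ∀ {X Y : Fin 6 → F4} {l : F4}, l ≠ 0 → hf X (l • Y) = 0 → hf X Y = 0 := fun hl h => by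
    rw [hf_smul_right] at h
    exact (mul_eq_zero.1 h).resolve_left (pow_ne_zero 2 hl)
  have hz0' : ∀ {X Y : Fin 6 → F4} {l : F4}, l ≠ 0 → hf (l • X) Y = 0 → hf X Y = 0 := fun hl h => by
    rw [hf_smul_left] at h
    exact (mul_eq_zero.1 h).resolve_left hl
  have cpu : ∀ {z : G} (hz : z ∈ nb D a) {x : F4} {t : ℕ} {l : F4}, t < 693 → l ≠ 0 → A + x • C = l • vec (code t) →
      P.iso (im hz) = T t → Commute p z ∧ Commute q z := by
    intro z hz x t l ht hl e eT
    exact ⟨cmm hpm hz hr ht hrp eT (hz0 hl (e ▸ (hAx x).1)), cmm hqm hz hs ht hsq eT (hz0 hl (e ▸ (hAx x).2))⟩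
  have cuv : Commute u v := cmm hu hv htu htv eTu eTv (hz0' hlu (hz0 hlv (eu ▸ ev ▸ hiso 1 (F4.ofNat4 2))))
  have cuw : Commute u w := cmm hu hw htu htw eTu eTw (hz0' hlu (hz0 hlw (eu ▸ ew ▸ hiso 1 (F4.ofNat4 3))))
  have cvw : Commute v w := cmm hv hw htv htw eTv eTw (hz0' hlv (hz0 hlw (ev ▸ ew ▸ hiso _ (F4.ofNat4 3))))
  obtain ⟨cpu', cqu⟩ := cpu hu htu hlu eu eTu
  obtain ⟨cpv, cqv⟩ := cpu hv htv hlv ev eTv
  obtain ⟨cpw, cqw⟩ := cpu hw htw hlw ew eTw
  -- the points differ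
  have hne0 : ∀ {x : F4} {t : ℕ} {l : F4}, x ≠ 0 → l ≠ 0 → A + x • C = l • vec (code t) → t ≠ r ∧ t ≠ s := by
    intro x t l hx hl e
    constructor
    · rintro rfl
      have := hi (1 - l) x (by rw [sub_smul, one_smul, ← hA]; rw [← hA] at e; rw [← e]; module)
      exact hx this.2
    · rintro rfl
      have := hi 1 (x - l) (by rw [sub_smul, one_smul]; rw [← hC] at e; rw [← e]; module)
      exact one_ne_zero this.1
  have hne1 : ∀ {x y : F4} {t : ℕ} {l m : F4}, x ≠ y → l ≠ 0 → m ≠ 0 → A + x • C = l • vec (code t) →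
      A + y • C = m • vec (code t) → False := by
    intro x y t l m hxy hl hm e e'
    have := hi (m - l) (m * x - l * y) (by
      have h1 : m • (A + x • C) = l • (A + y • C) := by rw [e, e', smul_comm]
      have : m • (A + x • C) - l • (A + y • C) = 0 := sub_eq_zero.2 h1
      rw [← this]; module)
    obtain rfl : m = l := sub_eq_zero.1 this.1
    exact hxy (sub_eq_zero.1 ((mul_eq_zero.1 (by rw [← this.2]; ring : m * (x - y) = 0)).resolve_left hm))
  have hdist : ∀ {z z' : G} (hz : z ∈ nb D a) (hz' : z' ∈ nb D a) {t t' : ℕ}, t < 693 → t' < 693 →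
      P.iso (im hz) = T t → P.iso (im hz') = T t' → t ≠ t' → z ≠ z' := by
    intro z z' hz hz' t t' ht ht' e e' hne heq
    subst heq
    exact hne (T_inj ht ht' (e.symm.trans e'))
  have hL : ComList D [p, q, u, v, w] := by
    refine ⟨?_, ?_, ?_⟩
    · simp only [List.nodup_cons, List.mem_cons, List.not_mem_nil, or_false, not_or, List.nodup_nil, and_true,
        not_false_eq_true]
      exact ⟨⟨hpq, hdist hpm hu hr htu hrp eTu (hne0 one_ne_zero hlu eu).1.symm,
          hdist hpm hv hr htv hrp eTv (hne0 h2 hlv ev).1.symm, hdist hpm hw hr htw hrp eTw (hne0 h3 hlw ew).1.symm⟩,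
        ⟨hdist hqm hu hs htu hsq eTu (hne0 one_ne_zero hlu eu).2.symm,
          hdist hqm hv hs htv hsq eTv (hne0 h2 hlv ev).2.symm, hdist hqm hw hs htw hsq eTw (hne0 h3 hlw ew).2.symm⟩,
        ⟨hdist hu hv htu htv eTu eTv fun e => hne1 (by decide +kernel) hlu hlv eu (e.symm ▸ ev),
          hdist hu hw htu htw eTu eTw fun e => hne1 (by decide +kernel) hlu hlw eu (e.symm ▸ ew)⟩,
        hdist hv hw htv htw eTv eTw fun e => hne1 (by decide +kernel) hlv hlw ev (e.symm ▸ ew)⟩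
    · simp only [List.mem_cons, List.not_mem_nil, or_false]
      rintro x (rfl | rfl | rfl | rfl | rfl)
      exacts [hpm.1, hqm.1, hu.1, hv.1, hw.1]
    · simp only [List.mem_cons, List.not_mem_nil, or_false]
      rintro x (rfl | rfl | rfl | rfl | rfl) y (rfl | rfl | rfl | rfl | rfl) <;>
        first
          | exact Commute.refl _ | assumption | exact Commute.symm (by assumption)
  have hnbs : ∀ x ∈ [p, q, u, v, w], x ∈ nb D a := by
    simp only [List.mem_cons, List.not_mem_nil, or_false]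
    rintro x (rfl | rfl | rfl | rfl | rfl) <;> assumption
  set y := [p, q, u, v, w].prod with hy
  have hca : Commute y a := Commute.list_prod_left _ _ fun x hx => (hnbs x hx).2.2.symm
  have hcn : ∀ z ∈ nb D a, Commute y z := by
    have hmem : y ∈ Subgroup.closure (nb D a) :=
      list_prod_mem fun x hx => Subgroup.subset_closure (hnbs x hx)
    have him : (QuotientGroup.mk (⟨y, hmem⟩ : ↥(Subgroup.closure (nb D a))) : SecG D a) = 1 := by
      refine P.iso.map_eq_one_iff.1 ?_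
      have hprod : (⟨y, hmem⟩ : ↥(Subgroup.closure (nb D a))) = ⟨p, Subgroup.subset_closure hpm⟩ *
          (⟨q, Subgroup.subset_closure hqm⟩ * (⟨u, Subgroup.subset_closure hu⟩ *
            (⟨v, Subgroup.subset_closure hv⟩ * ⟨w, Subgroup.subset_closure hw⟩))) :=
        Subtype.ext (by simp [hy])
      rw [hprod, QuotientGroup.mk_mul, QuotientGroup.mk_mul, QuotientGroup.mk_mul, QuotientGroup.mk_mul, map_mul,
        map_mul, map_mul, map_mul]
      show P.iso (im hpm) * (P.iso (im hqm) * (P.iso (im hu) * (P.iso (im hv) * P.iso (im hw)))) = 1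
      rw [hrp, hsq, ePu, ePv, ePw, T_eq_PV, T_eq_PV]
      simpa using line_prod (dot_iso hr) (dot_iso hs) hAC
    rw [QuotientGroup.eq_one_iff, Subgroup.mem_center_iff] at him
    exact fun z hz => (congrArg Subtype.val (him ⟨z, Subgroup.subset_closure hz⟩)).symm
  have hy1 : y ≠ 1 := P.noRel (k := 5) (by norm_num) le_rfl _ hL rfl
  have hya : y = a := by
    obtain ⟨lab, L⟩ := B.exists_labelled
    obtain ⟨b₀, hb₀, hab₀⟩ := exists_not_commute (class_of_primitive P.grp hp) hp.2.1 P.mema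
    have hb' : y * b₀ * y⁻¹ ∈ D := P.grp.2.1 y b₀ hb₀
    have hab' : ¬ Commute a (y * b₀ * y⁻¹) := by
      intro h
      have e : y * a * y⁻¹ = a := by rw [hca.eq, mul_inv_cancel_right]
      rw [← e, commute_conj_iff] at h
      exact hab₀ h
    rcases two_in_fibre B L hb₀ hab₀ hb' hab' fun i hi hcm => by
      have e : y * lab i * y⁻¹ = lab i := by rw [(hcn _ (L.mem i hi)).eq, mul_inv_cancel_right]
      rw [← e, commute_conj_iff]
      exact hcm with e | e
    · exact absurd (B.eq_one_of_commute hca hcn hb₀ hab₀ (mul_inv_eq_iff_eq_mul.1 e)) hy1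
    · have h1 : a * y = 1 := by
        refine B.eq_one_of_commute ((Commute.refl a).mul_left hca) (fun z hz => (hz.2.2).mul_left (hcn z hz)) hb₀ hab₀ ?_
        refine mul_inv_eq_iff_eq_mul.1 ?_
        rw [mul_inv_rev, show a * y * b₀ * (y⁻¹ * a⁻¹) = a * (y * b₀ * y⁻¹) * a⁻¹ by group, e,
          inv_eq P.grp.1 P.mema]
        simp only [mul_assoc, mul_self_assoc P.grp.1 P.mema, mul_self P.grp.1 P.mema, mul_one]
      rw [← inv_eq P.grp.1 P.mema]
      exact eq_inv_of_mul_eq_one_right h1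
  refine ⟨u, v, w, ⟨List.nodup_cons.2 ⟨fun ha => (hnbs a ha).2.1 rfl, hL.nodup⟩, ?_, ?_⟩, ?_⟩
  · exact fun x hx => (List.mem_cons.1 hx).elim (fun e => e ▸ P.mema) (hL.mem x)
  · intro x hx y' hy'
    rcases List.mem_cons.1 hx with e | hx <;> rcases List.mem_cons.1 hy' with e' | hy'
    exacts [e ▸ e' ▸ Commute.refl _, e ▸ (hnbs _ hy').2.2, e' ▸ (hnbs _ hx).2.2.symm, hL.comm _ hx _ hy']
  · rw [List.prod_cons, ← hy, hya, mul_self P.grp.1 P.mema]

theorem m22_noRel (hD : IsThreeTranspositionGroup D) (h : IsOfTypeM22 G D) : NoRel D 4 := by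
  obtain ⟨a, b, ⟨P⟩⟩ := exists_pre h (by rw [diff_one hD.1]; exact hD)
  exact diff_one hD.1 ▸ P.noRel (k := 4) (by norm_num) (by norm_num)

end CfsgLib.Recog.FiM22.Factor
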