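import Cfsg.Agent.Lib.ThreeTrans.RankThree
import Cfsg.Prelude.Def_FischerSpaces

set_option autoImplicit false

/-!
Products of commuting members of a class of 3-transpositions: reduction of equal products to relations
(owner: helper16).
-/

namespace CfsgLib.Recog.FiM22.Factor

open Cfsg CfsgLib.ThreeTrans

variable {G : Type*} [Group G] {D : Set G}

/-- A list of distinct pairwise commuting members. -/
structure ComList (D : Set G) (l : List G) : Prop where
  nodup : l.Nodup
  mem : ∀ a ∈ l, a ∈ D
  comm : ∀ a ∈ l, ∀ b ∈ l, Commute a b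

/-- No product of `k` distinct pairwise commuting members is trivial. -/
def NoRel (D : Set G) (k : ℕ) : Prop := ∀ l : List G, ComList D l → l.length = k → l.prod ≠ 1

theorem ComList.tail {a : G} {l : List G} (h : ComList D (a :: l)) : ComList D l :=
  ⟨(List.nodup_cons.1 h.nodup).2, fun x hx => h.mem x (List.mem_cons_of_mem _ hx),
    fun x hx y hy => h.comm x (List.mem_cons_of_mem _ hx) y (List.mem_cons_of_mem _ hy)⟩

theorem ComList.sub {l u : List G} (h : ComList D l) (hn : u.Nodup) (hs : ∀ x ∈ u, x ∈ l) : ComList D u :=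
  ⟨hn, fun x hx => h.mem x (hs x hx), fun x hx y hy => h.comm x (hs x hx) y (hs y hy)⟩

theorem ComList.pairwise {l : List G} (h : ComList D l) : l.Pairwise Commute :=
  List.pairwise_of_forall_mem_list h.comm

theorem ComList.prod_perm {l u : List G} (h : ComList D l) (hp : l.Perm u) : u.prod = l.prod :=
  (hp.prod_eq' h.pairwise).symm

theorem ComList.conj {l : List G} (h : ComList D l) (hc : ∀ g : G, ∀ x ∈ D, g * x * g⁻¹ ∈ D) (g : G) :
    ComList D (l.map (MulAut.conj g)) := by
  refine ⟨h.nodup.map (MulAut.conj g).injective, ?_, ?_⟩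
  · intro x hx
    obtain ⟨y, hy, rfl⟩ := List.mem_map.1 hx
    exact hc g y (h.mem y hy)
  · intro x hx y hy
    obtain ⟨x, hx', rfl⟩ := List.mem_map.1 hx
    obtain ⟨y, hy', rfl⟩ := List.mem_map.1 hy
    exact (h.comm x hx' y hy').map _

theorem ComList.prod_sq (hS : IsThreeTranspositionSet D) : ∀ {l : List G}, ComList D l → l.prod * l.prod = 1
  | [], _ => by simp
  | a :: l, h => by
    have hc : Commute a l.prod := Commute.list_prod_right _ _ fun x hx =>
      h.comm a List.mem_cons_self x (List.mem_cons_of_mem _ hx)
    rw [List.prod_cons]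
    calc a * l.prod * (a * l.prod) = a * (l.prod * a) * l.prod := by group
      _ = a * (a * l.prod) * l.prod := by rw [hc.eq]
      _ = 1 := by rw [mul_self_assoc hS (h.mem a List.mem_cons_self), h.tail.prod_sq hS]

theorem ComList.commute_each (hS : IsThreeTranspositionSet D) {l : List G} (h : ComList D l) (h3 : l.length ≤ 3)
    {e : G} (he : e ∈ D) (hc : Commute e l.prod) : ∀ x ∈ l, Commute e x := by
  obtain ⟨hn, hm, hcm⟩ := h
  match l, h3, hn, hm, hcm, hc with
  | [], _, _, _, _, _ => simp
  | [a], _, _, _, _, hc => simpa using hc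
  | [a, b], _, hn, hm, _, hc =>
    simp only [List.nodup_cons, List.mem_singleton] at hn
    simp only [List.mem_cons, List.not_mem_nil, or_false, forall_eq_or_imp, forall_eq] at hm ⊢
    exact (commute_mul_iff hS hm.1 hm.2 he hn.1).1 (by simpa using hc)
  | [a, b, c], _, hn, hm, hcm, hc =>
    simp only [List.nodup_cons, List.mem_cons, List.not_mem_nil, or_false, not_or] at hn
    simp only [List.mem_cons, List.not_mem_nil, or_false, forall_eq_or_imp, forall_eq] at hm hcm ⊢
    exact (commute_mul_three_iff hS hm.1 hm.2.1 hm.2.2 he hn.1.1 hn.1.2 hn.2.1 hcm.1.2.1 hcm.1.2.2 hcm.2.1.2.2).1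
      (by simpa [mul_assoc] using hc)
  | _ :: _ :: _ :: _ :: _, h3, _, _, _, _ => simp only [List.length_cons] at h3; omega

theorem ComList.commute_all (hS : IsThreeTranspositionSet D) {l l' : List G} (h : ComList D l) (h' : ComList D l')
    (h3 : l.length ≤ 3) (heq : l'.prod = l.prod) : ∀ x ∈ l', ∀ y ∈ l, Commute x y := by
  intro x hx
  refine h.commute_each hS h3 (h'.mem x hx) ?_
  rw [← heq]
  exact Commute.list_prod_right _ _ fun y hy => h'.comm x hx y hy

/-- Two short lists with one product have the same members, or have none in common and six members with trivial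
product. -/
theorem same_or_disjoint (hS : IsThreeTranspositionSet D) (h4 : NoRel D 4) {m : ℕ} {l l' : List G}
    (h : ComList D l) (h' : ComList D l') (hl : l.length = m) (hl' : l'.length = m) (hm : m ≤ 3)
    (heq : l.prod = l'.prod) :
    (∀ x, x ∈ l ↔ x ∈ l') ∨ (m = 3 ∧ (∀ x ∈ l, x ∉ l') ∧ ComList D (l ++ l') ∧ (l ++ l').prod = 1) := by
  classical
  by_cases hsame : ∀ x, x ∈ l ↔ x ∈ l'
  · exact Or.inl hsame
  right
  have hx : ∀ x ∈ l', ∀ y ∈ l, Commute x y := h.commute_all hS h' (by omega) heq.symm
  have hall : ∀ x ∈ l ++ l', ∀ y ∈ l ++ l', Commute x y := by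
    intro x hx' y hy'
    rcases List.mem_append.1 hx' with a | a <;> rcases List.mem_append.1 hy' with b | b
    exacts [h.comm x a y b, (hx y b x a).symm, hx x a y b, h'.comm x a y b]
  have hpw : ∀ u : List G, (∀ x ∈ u, x ∈ l ++ l') → u.Pairwise Commute := fun u hu =>
    List.pairwise_of_forall_mem_list fun x hx' y hy' => hall x (hu x hx') y (hu y hy')
  let c := l.filter fun x => decide (x ∈ l')
  let c' := l'.filter fun x => decide (x ∈ l)
  let d := l.filter fun x => decide (x ∉ l')
  let d' := l'.filter fun x => decide (x ∉ l)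
  have hp : (c ++ d).Perm l := by simpa only [c, d, decide_not] using List.filter_append_perm _ l
  have hp' : (c' ++ d').Perm l' := by simpa only [c', d', decide_not] using List.filter_append_perm _ l'
  have hcc : c.Perm c' := (List.perm_ext_iff_of_nodup (h.nodup.filter _) (h'.nodup.filter _)).2 fun x => by
    simp [c, c', and_comm]
  have e1 : c.prod * d.prod = l.prod := by rw [← List.prod_append, hp.prod_eq' (hpw _ fun x hx' =>
    List.mem_append_left _ (hp.subset hx'))]
  have e2 : c'.prod * d'.prod = l'.prod := by rw [← List.prod_append, hp'.prod_eq' (hpw _ fun x hx' =>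
    List.mem_append_right _ (hp'.subset hx'))]
  have e3 : c.prod = c'.prod := hcc.prod_eq' (hpw _ fun x hx' => List.mem_append_left _ (List.mem_filter.1 hx').1)
  have hd : d.prod = d'.prod := mul_left_cancel (a := c.prod) (by rw [e1, heq, ← e2, e3])
  have hdc : ComList D d' := h'.sub (h'.nodup.filter _) fun x hx' => (List.mem_filter.1 hx').1
  have hu : ComList D (d ++ d') := by
    refine ⟨List.nodup_append.2 ⟨h.nodup.filter _, h'.nodup.filter _, ?_⟩, ?_, ?_⟩
    · intro x hx' y hy' e
      subst e
      simp [d, d'] at hx' hy'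
      exact hx'.2 hy'.1
    · intro x hx'
      rcases List.mem_append.1 hx' with a | a
      exacts [h.mem x (List.mem_filter.1 a).1, h'.mem x (List.mem_filter.1 a).1]
    · intro x hx' y hy'
      have hsub : ∀ z ∈ d ++ d', z ∈ l ++ l' := fun z hz => by
        rcases List.mem_append.1 hz with a | a
        exacts [List.mem_append_left _ (List.mem_filter.1 a).1, List.mem_append_right _ (List.mem_filter.1 a).1]
      exact hall x (hsub x hx') y (hsub y hy')
  have hprod : (d ++ d').prod = 1 := by rw [List.prod_append, hd, hdc.prod_sq hS]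
  have hlen : d.length = d'.length := by
    have := hp.length_eq; have := hp'.length_eq; have := hcc.length_eq
    simp only [List.length_append] at *
    omega
  have hdm : d.length ≤ m := hl ▸ List.length_filter_le _ l
  have hd0 : d.length ≠ 0 := by
    intro h0
    refine hsame fun x => ⟨fun hx' => ?_, fun hx' => ?_⟩
    · by_contra hn
      have : x ∈ d := by simp [d, hx', hn]
      simp [List.length_eq_zero_iff.1 h0] at this
    · by_contra hn
      have : x ∈ d' := by simp [d', hx', hn]
      simp [List.length_eq_zero_iff.1 (hlen ▸ h0 : d'.length = 0)] at this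
  have hd1 : d.length ≠ 1 := by
    intro h1
    obtain ⟨x, hxd⟩ := List.length_eq_one_iff.1 h1
    obtain ⟨y, hyd⟩ := List.length_eq_one_iff.1 (hlen ▸ h1 : d'.length = 1)
    rw [hxd, hyd, List.prod_singleton, List.prod_singleton] at hd
    subst hd
    have := hu.nodup
    rw [hxd, hyd] at this
    simp at this
  have hd2 : d.length ≠ 2 := fun h2 => h4 _ hu (by simp [List.length_append]; omega) hprod
  have hm3 : m = 3 ∧ d.length = 3 := by omega
  have hn1 : d.length = l.length := by omega
  have hn2 : d'.length = l'.length := by omega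
  have hdl : d = l := List.filter_eq_self.2 (List.length_filter_eq_length_iff.1 hn1)
  have hdl' : d' = l' := List.filter_eq_self.2 (List.length_filter_eq_length_iff.1 hn2)
  refine ⟨hm3.1, fun x hx' => ?_, by rwa [hdl, hdl'] at hu, by rwa [hdl, hdl'] at hprod⟩
  rw [← hdl] at hx'
  simpa [d] using (List.mem_filter.1 hx').2

theorem noRel_two (hS : IsThreeTranspositionSet D) : NoRel D 2 := by
  intro l h hl hp
  match l, h, hl, hp with
  | [a, b], h, _, hp =>
    have hn := h.nodup
    simp only [List.nodup_cons, List.mem_singleton] at hn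
    refine hn.1 ?_
    rw [List.prod_cons, List.prod_singleton] at hp
    rw [eq_inv_of_mul_eq_one_left hp, inv_eq hS (h.mem b (by simp))]

end CfsgLib.Recog.FiM22.Factor
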