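import Cfsg.Agent.Lib.Recog.FiM22.Factor.Lists

set_option autoImplicit false

/-!
The neighbours of one member of a transitive class of 3-transpositions modulo the centre of the subgroup they
generate: separation and relations pass upwards (owner: helper16).
-/

namespace CfsgLib.Recog.FiM22.Factor

open Cfsg CfsgLib.ThreeTrans

universe u

variable {G : Type u} [Group G] {D : Set G} {d : G}

/-- The members other than `d` commuting with `d`. -/
abbrev nb (D : Set G) (d : G) : Set G := {y : G | y ∈ D ∧ y ≠ d ∧ Commute d y}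

/-- The subgroup generated by the neighbours of `d` modulo its centre. -/
abbrev SecG (D : Set G) (d : G) : Type u :=
  ↥(Subgroup.closure (nb D d)) ⧸ Subgroup.center ↥(Subgroup.closure (nb D d))

/-- The images of the neighbours. -/
abbrev secSet (D : Set G) (d : G) : Set (SecG D d) :=
  (QuotientGroup.mk : ↥(Subgroup.closure (nb D d)) → _) '' {x : ↥(Subgroup.closure (nb D d)) | (x : G) ∈ nb D d}

/-- A single class of 3-transpositions generating the group. -/
structure Trans (D : Set G) : Prop where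
  grp : IsThreeTranspositionGroup D
  trans : ∀ a ∈ D, ∀ b ∈ D, ∃ g : G, g * a * g⁻¹ = b

/-- A member is determined by the members commuting with it. -/
def Sep (D : Set G) : Prop := ∀ p ∈ D, ∀ q ∈ D, (∀ y ∈ D, Commute y p ↔ Commute y q) → p = q

/-- The neighbour does not commute with all neighbours. -/
def Noncentral (D : Set G) (d e : G) : Prop := e ∈ nb D d ∧ ∃ y ∈ nb D d, ¬ Commute e y

/-- The image of a neighbour. -/
def im {e : G} (he : e ∈ nb D d) : SecG D d := QuotientGroup.mk ⟨e, Subgroup.subset_closure he⟩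

theorem Noncentral.im_ne_one {e : G} (h : Noncentral D d e) : im h.1 ≠ (1 : SecG D d) := by
  intro h1
  obtain ⟨he, y, hy, hn⟩ := h
  rw [im, QuotientGroup.eq_one_iff, Subgroup.mem_center_iff] at h1
  exact hn (congrArg Subtype.val (h1 ⟨y, Subgroup.subset_closure hy⟩)).symm

theorem im_eq_one_of_central {e : G} (he : e ∈ nb D d) (hc : ∀ y ∈ nb D d, Commute e y) :
    im he = (1 : SecG D d) := by
  rw [im, QuotientGroup.eq_one_iff, Subgroup.mem_center_iff]
  rintro ⟨x, hx⟩
  exact Subtype.ext (RankThree.commute_closure hc hx).eq.symm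

theorem noncentral_of_im_ne_one {e : G} (he : e ∈ nb D d) (h : im he ≠ (1 : SecG D d)) : Noncentral D d e := by
  refine ⟨he, ?_⟩
  by_contra hno
  push Not at hno
  exact h (im_eq_one_of_central he hno)

section Set3

variable (hS : IsThreeTranspositionSet D)
include hS

theorem im_mul_self {e : G} (he : e ∈ nb D d) : im he * im he = (1 : SecG D d) := by
  rw [im, ← QuotientGroup.mk_mul,
    show (⟨e, Subgroup.subset_closure he⟩ : ↥(Subgroup.closure (nb D d))) * ⟨e, Subgroup.subset_closure he⟩ = 1 from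
      Subtype.ext (mul_self hS he.1), QuotientGroup.mk_one]

theorem im_inj {e f : G} (he : Noncentral D d e) (hf : f ∈ nb D d) (h : im he.1 = im hf) : e = f := by
  by_contra hne
  obtain ⟨y, hy, hn⟩ := he.2
  have h1 : im he.1 * im hf = (1 : SecG D d) := by rw [h]; exact im_mul_self hS hf
  rw [im, im, ← QuotientGroup.mk_mul, QuotientGroup.eq_one_iff, Subgroup.mem_center_iff] at h1
  have h2 : Commute y (e * f) := congrArg Subtype.val (h1 ⟨y, Subgroup.subset_closure hy⟩)
  exact hn (commute_of_commute_mul hS he.1.1 hf.1 hy.1 hne h2).1.symm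

theorem im_commute {e f : G} (he : Noncentral D d e) (hf : f ∈ nb D d) :
    Commute (im he.1) (im hf) ↔ Commute e f := by
  refine ⟨fun h => ?_, fun h => ?_⟩
  · by_contra hn
    have h3 : (im he.1 * im hf) ^ 3 = (1 : SecG D d) := by
      rw [im, im, ← QuotientGroup.mk_mul, ← QuotientGroup.mk_pow,
        show (⟨e, Subgroup.subset_closure he.1⟩ * ⟨f, Subgroup.subset_closure hf⟩ :
          ↥(Subgroup.closure (nb D d))) ^ 3 = 1 from Subtype.ext (pow_three hS he.1.1 hf.1 hn), QuotientGroup.mk_one]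
    have h2 : (im he.1 * im hf) ^ 2 = (1 : SecG D d) := by
      rw [h.mul_pow, pow_two, pow_two, im_mul_self hS, im_mul_self hS, mul_one]
    rw [pow_succ, h2, one_mul] at h3
    have e1 : im he.1 = im hf := by
      rw [eq_inv_of_mul_eq_one_left h3]
      exact inv_eq_of_mul_eq_one_right (im_mul_self hS hf)
    exact hn (im_inj hS he hf e1 ▸ Commute.refl e)
  · exact (show Commute (⟨e, Subgroup.subset_closure he.1⟩ : ↥(Subgroup.closure (nb D d)))
      ⟨f, Subgroup.subset_closure hf⟩ from Subtype.ext h.eq).map (QuotientGroup.mk' _)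

end Set3

/-- The images of the neighbours other than the identity form a 3-transposition group. -/
theorem secGrp (h : IsThreeTranspositionGroup D) : IsThreeTranspositionGroup (secSet D d \ {1}) := by
  refine ⟨⟨?_, ?_⟩, ?_, ?_⟩
  · rintro _ ⟨⟨x, hx, rfl⟩, hne⟩
    refine orderOf_eq_prime ?_ hne
    rw [pow_two, ← QuotientGroup.mk_mul, show x * x = 1 from Subtype.ext (mul_self h.1 hx.1), QuotientGroup.mk_one]
  · rintro _ ⟨⟨x, hx, rfl⟩, -⟩ _ ⟨⟨y, hy, rfl⟩, -⟩
    rw [← QuotientGroup.mk_mul, ← QuotientGroup.mk_pow, ← QuotientGroup.mk_pow]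
    rcases h.1.2 _ hx.1 _ hy.1 with e | e
    · left; rw [show (x * y) ^ 2 = 1 from Subtype.ext e, QuotientGroup.mk_one]
    · right; rw [show (x * y) ^ 3 = 1 from Subtype.ext e, QuotientGroup.mk_one]
  · rintro g _ ⟨⟨x, hx, rfl⟩, hne⟩
    obtain ⟨⟨k, hk⟩, rfl⟩ := QuotientGroup.mk_surjective g
    refine ⟨⟨⟨k, hk⟩ * x * ⟨k, hk⟩⁻¹, ?_, by rfl⟩, fun e => hne ?_⟩
    · have hc : Commute d k := RankThree.commute_closure (fun _ hz => hz.2.2) hk
      have hd : k * d * k⁻¹ = d := by rw [← hc.eq, mul_inv_cancel_right]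
      refine ⟨h.2.1 k _ hx.1, fun eq => hx.2.1 ?_, ?_⟩
      · exact mul_left_cancel (mul_right_cancel (eq.trans hd.symm))
      · have := (commute_conj_iff (g := k)).2 hx.2.2
        rwa [hd] at this
    · exact conj_eq_one_iff.1 (Set.mem_singleton_iff.1 e)
  · rw [eq_top_iff]
    intro q _
    obtain ⟨⟨x, hx⟩, rfl⟩ := QuotientGroup.mk_surjective q
    induction hx using Subgroup.closure_induction with
    | mem y hy =>
      by_cases h1 : im hy = (1 : SecG D d)
      · rw [im] at h1; rw [h1]; exact one_mem _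
      · exact Subgroup.subset_closure ⟨⟨⟨y, _⟩, hy, rfl⟩, h1⟩
    | one => exact one_mem _
    | mul y z hy hz iy iz =>
      exact mul_mem (iy (Subgroup.mem_top _)) (iz (Subgroup.mem_top _))
    | inv y hy iy => exact inv_mem (iy (Subgroup.mem_top _))

theorem im_mem {e : G} (he : Noncentral D d e) : im he.1 ∈ secSet D d \ {1} :=
  ⟨⟨_, he.1, rfl⟩, he.im_ne_one⟩

theorem exists_of_mem_sec {q : SecG D d} (h : q ∈ secSet D d \ {1}) :
    ∃ (e : G) (he : Noncentral D d e), q = im he.1 := by
  obtain ⟨⟨⟨e, he⟩, hm, rfl⟩, hne⟩ := h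
  exact ⟨e, noncentral_of_im_ne_one hm hne, rfl⟩

variable [Finite G]

/-- If the images are separated no neighbour commutes with all neighbours. -/
theorem noncentral_of_sep (T : Trans D) (hd : d ∈ D) (hS : Sep (secSet D d \ {1}))
    (hne : (secSet D d \ {1}).Nonempty) {e : G} (he : e ∈ nb D d) : Noncentral D d e := by
  refine ⟨he, ?_⟩
  by_contra hno
  push Not at hno
  obtain ⟨_, hq⟩ := hne
  obtain ⟨f, hf, -⟩ := exists_of_mem_sec hq
  -- the same commuting members
  have hsame : ∀ y ∈ D, Commute y d ↔ Commute y e := by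
    let A : Set G := {y | y ∈ D ∧ Commute y d}
    let E : Set G := {y | y ∈ D ∧ Commute y e}
    have hAE : A ⊆ E := fun y hy => ⟨hy.1, by
      by_cases e' : y = d
      · exact e' ▸ he.2.2
      · exact (hno y ⟨hy.1, e', hy.2.symm⟩).symm⟩
    obtain ⟨g, hg⟩ := T.trans e he.1 d hd
    have hEA : (fun x => g * x * g⁻¹) '' E ⊆ A := by
      rintro _ ⟨x, hx, rfl⟩
      refine ⟨T.grp.2.1 g x hx.1, ?_⟩
      have := (commute_conj_iff (g := g)).2 hx.2
      rwa [hg] at this
    have h1 := Set.ncard_le_ncard hEA (Set.toFinite _)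
    rw [Set.ncard_image_of_injective E fun x y h => mul_left_cancel (mul_right_cancel h)] at h1
    have heq := Set.eq_of_subset_of_ncard_le hAE h1 (Set.toFinite _)
    exact fun y hy => ⟨fun h => (hAE ⟨hy, h⟩).2, fun h => (heq.symm ▸ ⟨hy, h⟩ : y ∈ A).2⟩
  obtain ⟨g, hg⟩ := T.trans d hd f hf.1.1
  set f' := g * e * g⁻¹ with hf'
  have hf'D : f' ∈ D := T.grp.2.1 g e he.1
  have hsame' : ∀ y ∈ D, Commute y f ↔ Commute y f' := by
    intro y hy
    rw [← conj_cancel g y, ← hg, hf', commute_conj_iff, commute_conj_iff]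
    exact hsame _ (by simpa using T.grp.2.1 g⁻¹ y hy)
  have hne' : f ≠ f' := fun h => he.2.1 (mul_left_cancel (mul_right_cancel (hg.trans h))).symm
  obtain ⟨y, hy, hyn⟩ := hf.2
  have hfd : f' ≠ d := fun h => hyn (by
    have := (hsame' y hy.1).2 (h.symm ▸ hy.2.2.symm)
    exact this.symm)
  have hf'nb : f' ∈ nb D d := ⟨hf'D, hfd, (hsame' d hd).1 hf.1.2.2⟩
  have hnc' : Noncentral D d f' :=
    ⟨hf'nb, y, hy, fun h => hyn ((hsame' y hy.1).2 h.symm).symm⟩
  refine hne' (im_inj T.grp.1 hf hf'nb (hS _ (im_mem hf) _ (im_mem hnc') ?_))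
  intro q hq
  obtain ⟨z, hz, rfl⟩ := exists_of_mem_sec hq
  rw [im_commute T.grp.1 hz hf.1, im_commute T.grp.1 hz hf'nb]
  exact hsame' z hz.1.1

omit [Finite G] in
theorem sep_of_noncentral (T : Trans D) (hd : d ∈ D) (hnc : ∀ e ∈ nb D d, Noncentral D d e) : Sep D := by
  intro p hp q hq h
  by_contra hne
  obtain ⟨g, hg⟩ := T.trans p hp d hd
  have hq' : g * q * g⁻¹ ∈ nb D d := by
    refine ⟨T.grp.2.1 g q hq, fun e => hne (mul_left_cancel (mul_right_cancel (hg.trans e.symm))), ?_⟩
    rw [← hg, commute_conj_iff]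
    exact (h p hp).1 (Commute.refl p)
  obtain ⟨y, hy, hyn⟩ := (hnc _ hq').2
  refine hyn ?_
  rw [← conj_cancel g y, commute_conj_iff]
  refine ((h _ (by simpa using T.grp.2.1 g⁻¹ y hy.1)).1 ?_).symm
  rw [← commute_conj_iff (g := g), conj_cancel, hg]
  exact hy.2.2.symm

omit [Finite G] in
/-- Relations pass upwards. -/
theorem noRel_succ (T : Trans D) (hd : d ∈ D) (hnc : ∀ e ∈ nb D d, Noncentral D d e) {k : ℕ}
    (h : NoRel (secSet D d \ {1}) k) : NoRel D (k + 1) := by
  intro l hl hlen hprod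
  match l, hlen with
  | a :: l, hlen =>
    obtain ⟨g, hg⟩ := T.trans a (hl.mem a List.mem_cons_self) d hd
    have hc := hl.conj T.grp.2.1 g
    have hga : MulAut.conj g a = d := hg
    rw [List.map_cons, hga] at hc
    have hp : d * (l.map (MulAut.conj g)).prod = 1 := by
      rw [← hga, ← List.prod_cons, ← List.map_cons, ← map_list_prod, hprod, map_one]
    set t := l.map (MulAut.conj g) with ht
    have htl : t.length = k := by simp [ht]; simpa using hlen
    have hmem : ∀ x ∈ t, x ∈ nb D d := fun x hx =>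
      ⟨hc.mem x (List.mem_cons_of_mem _ hx), fun e => (List.nodup_cons.1 hc.nodup).1 (e ▸ hx),
        hc.comm d List.mem_cons_self x (List.mem_cons_of_mem _ hx)⟩
    let t' : List ↥(Subgroup.closure (nb D d)) := t.attach.map fun x => ⟨x.1, Subgroup.subset_closure (hmem x.1 x.2)⟩
    have hsub : t'.map Subtype.val = t := by simp [t', List.map_map, Function.comp_def]
    have hcen : t'.prod ∈ Subgroup.center _ := by
      have hv : ((t'.prod : ↥(Subgroup.closure (nb D d))) : G) = d := by
        rw [Subgroup.val_list_prod, hsub, eq_inv_of_mul_eq_one_right hp, inv_eq T.grp.1 hd]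
      rw [Subgroup.mem_center_iff]
      rintro ⟨y, hy⟩
      refine Subtype.ext ?_
      show y * (t'.prod : G) = (t'.prod : G) * y
      rw [hv]
      exact (RankThree.commute_closure (fun _ hz => hz.2.2) hy).eq.symm
    refine h (t'.map (QuotientGroup.mk' _)) ⟨?_, ?_, ?_⟩ (by simp [t', htl]) ?_
    · rw [List.nodup_map_iff_inj_on ?_]
      · rintro ⟨x, hx⟩ hx' ⟨y, hy⟩ hy' e
        have hxt : x ∈ t := hsub ▸ List.mem_map.2 ⟨_, hx', rfl⟩
        have hyt : y ∈ t := hsub ▸ List.mem_map.2 ⟨_, hy', rfl⟩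
        exact Subtype.ext (im_inj T.grp.1 (hnc x (hmem x hxt)) (hmem y hyt) e)
      · exact List.Nodup.of_map Subtype.val (hsub ▸ hc.tail.nodup)
    · intro q hq
      obtain ⟨⟨x, hx⟩, hx', rfl⟩ := List.mem_map.1 hq
      have hxt : x ∈ t := hsub ▸ List.mem_map.2 ⟨_, hx', rfl⟩
      exact im_mem (hnc x (hmem x hxt))
    · intro q hq r hr
      obtain ⟨⟨x, hx⟩, hx', rfl⟩ := List.mem_map.1 hq
      obtain ⟨⟨y, hy⟩, hy', rfl⟩ := List.mem_map.1 hr
      have hxt : x ∈ t := hsub ▸ List.mem_map.2 ⟨_, hx', rfl⟩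
      have hyt : y ∈ t := hsub ▸ List.mem_map.2 ⟨_, hy', rfl⟩
      exact (show Commute (⟨x, hx⟩ : ↥(Subgroup.closure (nb D d))) ⟨y, hy⟩ from
        Subtype.ext (hc.tail.comm x hxt y hyt).eq).map _
    · rw [← map_list_prod]
      exact (QuotientGroup.eq_one_iff _).2 hcen

end CfsgLib.Recog.FiM22.Factor
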