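import Cfsg.Agent.Lib.Recog.FiM22.Factor.Line

set_option autoImplicit false
set_option maxRecDepth 20000

/-!
An involution of PSU(6, 2) is a product of at most three transvections at independent orthogonal points; three
such points have two further bases with the same product (owner: helper16).
-/

namespace CfsgLib.Recog.FiM22.Factor

open CfsgLib.Recog.SporBound.Fi22U6
open scoped Matrix

/-- Isotropic, pairwise orthogonal, with a dual system. -/
structure Frame3 (vs : List (Fin 6 → F4)) : Prop where
  orth : ∀ v ∈ vs, ∀ w ∈ vs, hf v w = 0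
  dual : ∀ i (hi : i < vs.length), ∃ x, ∀ j (hj : j < vs.length), hf x vs[j] = if i = j then 1 else 0

theorem frame_length {vs : List (Fin 6 → F4)} (h : Frame3 vs) : vs.length ≤ 3 := by
  obtain ⟨x, hx⟩ : ∃ x : Fin vs.length → (Fin 6 → F4), ∀ i j : Fin vs.length,
      hf (x i) vs[(j : ℕ)] = if i = j then 1 else 0 := by
    choose x hx using fun i : Fin vs.length => h.dual i i.2
    exact ⟨x, fun i j => (hx i j j.2).trans (by simp [Fin.ext_iff])⟩
  let φ : (Fin 6 → F4) →ₗ[F4] (Fin vs.length → F4) :=
    { toFun := fun y j => hf y vs[(j : ℕ)]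
      map_add' := fun y y' => by funext j; simp [hf_add_left]
      map_smul' := fun c y => by funext j; simp [hf_smul_left] }
  have hsurj : Function.Surjective φ := fun f => ⟨∑ i, f i • x i, by
    funext j
    rw [map_sum, Finset.sum_apply, Finset.sum_eq_single j]
    · simp [φ, hf_smul_left, hx]
    · intro i _ hij
      simp [φ, hf_smul_left, hx, hij]
    · simp⟩
  have hind : LinearIndependent F4 fun j : Fin vs.length => vs[(j : ℕ)] := by
    rw [Fintype.linearIndependent_iff]
    intro g hg i
    have hz : hf (∑ j : Fin vs.length, g j • vs[(j : ℕ)]) (x i) = g i := by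
      have hlin : ∀ (s : Finset (Fin vs.length)), hf (∑ j ∈ s, g j • vs[(j : ℕ)]) (x i) =
          ∑ j ∈ s, g j * hf vs[(j : ℕ)] (x i) := by
        intro s
        induction s using Finset.induction_on with
        | empty => simp [hf, Cfsg.hermForm]
        | insert a s ha ih => rw [Finset.sum_insert ha, Finset.sum_insert ha, hf_add_left, hf_smul_left, ih]
      rw [hlin, Finset.sum_eq_single i]
      · rw [hf_conj (x i), hx i i]; simp
      · intro j _ hj
        rw [hf_conj (x i), hx i j, if_neg hj.symm]
        simp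
      · simp
    rw [hg] at hz
    rw [← hz]
    simp [hf, Cfsg.hermForm]
  have hker : Submodule.span F4 (Set.range fun j : Fin vs.length => vs[(j : ℕ)]) ≤ LinearMap.ker φ := by
    rw [Submodule.span_le]
    rintro _ ⟨j, rfl⟩
    exact funext fun k => h.orth _ (List.getElem_mem j.2) _ (List.getElem_mem k.2)
  have h1 := Submodule.finrank_mono hker
  rw [finrank_span_eq_card hind, Fintype.card_fin] at h1
  have h2 := LinearMap.finrank_range_add_finrank_ker φ
  rw [LinearMap.range_eq_top.2 hsurj, finrank_top, Module.finrank_fin_fun, Module.finrank_fin_fun] at h2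
  omega

theorem sum_form (ys : List ((Fin 6 → F4) × F4)) (y : Fin 6 → F4) :
    hf (ys.map fun p => p.2 • p.1).sum y = (ys.map fun p => p.2 * hf p.1 y).sum := by
  induction ys with
  | nil => simp [hf, Cfsg.hermForm]
  | cons p ys ih => simp only [List.map_cons, List.sum_cons, hf_add_left, hf_smul_left, ih]

/-- An involution of SU(6, 2) is the product of the transvections of a frame. -/
theorem su_three {t : SU6} (h2 : t * t = 1) : ∃ vs, Frame3 vs ∧ t = (vs.map tsu).prod := by
  let N : (Fin 6 → F4) → Fin 6 → F4 := fun x => mat t *ᵥ x + x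
  have hdd : ∀ x : Fin 6 → F4, x + x = 0 := fun x => funext fun i => f4_add_self (x i)
  have htt : ∀ x, mat t *ᵥ (mat t *ᵥ x) = x := fun x => by
    rw [Matrix.mulVec_mulVec, ← mat_mul, h2, mat_one, Matrix.one_mulVec]
  have tN : ∀ x, mat t *ᵥ x = x + N x := fun x => by
    rw [show x + N x = x + (mat t *ᵥ x + x) from rfl, add_comm (mat t *ᵥ x) x, ← add_assoc, hdd, zero_add]
  have hNN : ∀ x, N (N x) = 0 := fun x => by
    simp only [N, Matrix.mulVec_add, htt]
    rw [add_comm x (mat t *ᵥ x), hdd]
  have hadj : ∀ x y, hf (N x) y = hf x (N y) := fun x y => by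
    simp only [N, hf_add_left, hf_add_right]
    congr 1
    rw [← (show hf (mat t *ᵥ (mat t *ᵥ x)) (mat t *ᵥ y) = hf (mat t *ᵥ x) y from form_eq t _ _), htt]
  have N_add : ∀ x y, N (x + y) = N x + N y := fun x y => by simp only [N, Matrix.mulVec_add]; abel
  have N_smul : ∀ (c : F4) x, N (c • x) = c • N x := fun c x => by simp only [N, Matrix.mulVec_smul, smul_add]
  have N_zero : N 0 = 0 := by simp [N]
  let β : (Fin 6 → F4) → (Fin 6 → F4) → F4 := fun x y => hf (N x) y
  have β_conj : ∀ x y, β y x = β x y ^ 2 := fun x y => by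
    show hf (N y) x = hf (N x) y ^ 2
    rw [hadj, hf_conj (N x) y]
  have idem : ∀ x : Fin 6 → F4, β x x ≠ 0 → β x x = 1 := fun x hx =>
    (by decide +kernel : ∀ a : F4, a ≠ 0 → a = a ^ 2 → a = 1) _ hx (β_conj x x)
  have polar : ∀ a b : F4, (∀ c : F4, c ^ 2 * a + c * b = 0) → a = 0 := by decide +kernel
  -- a system orthonormal for the form
  let Good : List (Fin 6 → F4) → Prop := fun xs =>
    ∀ i (hi : i < xs.length) j (hj : j < xs.length), β xs[i] xs[j] = if i = j then 1 else 0
  have hframe : ∀ xs, Good xs → Frame3 (xs.map N) := by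
    intro xs hg
    refine ⟨?_, fun i hi => ?_⟩
    · intro v hv w hw
      obtain ⟨p, -, rfl⟩ := List.mem_map.1 hv
      obtain ⟨q, -, rfl⟩ := List.mem_map.1 hw
      rw [hadj, hNN, hf_zero_right]
    · rw [List.length_map] at hi
      refine ⟨xs[i], fun j hj => ?_⟩
      rw [List.length_map] at hj
      rw [List.getElem_map, ← hadj]
      exact hg i hi j hj
  have hdone : ∀ k, ∃ xs, Good xs ∧ (xs.length = k ∨ ∀ z, (∀ x ∈ xs, β z x = 0) → N z = 0) := by
    intro k
    induction k with
    | zero => exact ⟨[], fun i hi => absurd hi (by simp), Or.inl rfl⟩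
    | succ k ih =>
      obtain ⟨xs, hg, hx⟩ := ih
      by_cases hall : ∀ z, (∀ x ∈ xs, β z x = 0) → N z = 0
      · exact ⟨xs, hg, Or.inr hall⟩
      have hk : xs.length = k := hx.resolve_right hall
      push Not at hall
      obtain ⟨z, hz, hzN⟩ := hall
      obtain ⟨y, hy⟩ := exists_herm_one hzN
      have hlin : ∀ (p q r : Fin 6 → F4) (c : F4), β (p + c • q) r = β p r + c * β q r := fun p q r c => by
        simp only [β, N_add, N_smul, hf_add_left, hf_smul_left]
      have hlinr : ∀ (p q r : Fin 6 → F4) (c : F4), β r (p + c • q) = β r p + c ^ 2 * β r q := fun p q r c => by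
        simp only [β, hf_add_right, hf_smul_right]
      let y' := y + (xs.map fun x => β y x • x).sum
      have hsum : ∀ w, β (y + (xs.map fun x => β y x • x).sum) w = β y w + (xs.map fun x => β y x * β x w).sum := by
        intro w
        have : ∀ us : List (Fin 6 → F4), N (us.map fun x => β y x • x).sum = (us.map fun x => β y x • N x).sum := by
          intro us
          induction us with
          | nil => simpa using N_zero
          | cons u us ih => rw [List.map_cons, List.sum_cons, List.map_cons, List.sum_cons, N_add, N_smul, ih]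
        show hf (N _) w = _
        rw [N_add, hf_add_left, this]
        have h' := sum_form (xs.map fun x => (N x, β y x)) w
        simp only [List.map_map, Function.comp_def] at h'
        rw [h']
      have hy'0 : ∀ x ∈ xs, β y' x = 0 := by
        intro x hxm
        obtain ⟨j, hj, rfl⟩ := List.getElem_of_mem hxm
        rw [hsum]
        have : (xs.map fun x => β y x * β x xs[j]).sum = β y xs[j] := by
          rw [← Fin.sum_univ_fun_getElem, Finset.sum_eq_single (⟨j, hj⟩ : Fin xs.length)]
          · rw [hg j hj j hj, if_pos rfl, mul_one]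
          · intro i _ hij
            rw [hg i i.2 j hj, if_neg (fun e => hij (Fin.ext e)), mul_zero]
          · simp
        rw [this, f4_add_self]
      have hzy : β z y' ≠ 0 := by
        have hzy0 : β z y = 1 := by
          show hf (N z) y = 1
          rw [hf_conj y (N z), show hf y (N z) = 1 from hy]; decide
        have hzsum : β z (xs.map fun x => β y x • x).sum = 0 := by
          show hf (N z) _ = 0
          have : ∀ us : List (Fin 6 → F4), (∀ x ∈ us, x ∈ xs) → hf (N z) (us.map fun x => β y x • x).sum = 0 := by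
            intro us hus
            induction us with
            | nil => simpa using hf_zero_right (N z)
            | cons u us ih =>
              rw [List.map_cons, List.sum_cons, hf_add_right, hf_smul_right,
                show hf (N z) u = 0 from hz u (hus u List.mem_cons_self), mul_zero, zero_add,
                ih fun x hx' => hus x (List.mem_cons_of_mem _ hx')]
          exact this xs fun x hx' => hx'
        show hf (N z) (y + _) ≠ 0
        rw [hf_add_right, show hf (N z) y = 1 from hzy0, show hf (N z) _ = 0 from hzsum, add_zero]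
        exact one_ne_zero
      obtain ⟨w, hw0, hw1⟩ : ∃ w, (∀ x ∈ xs, β w x = 0) ∧ β w w = 1 := by
        by_contra hno
        have hall' : ∀ w, (∀ x ∈ xs, β w x = 0) → β w w = 0 := fun w hw =>
          by_contra fun e => hno ⟨w, hw, idem w e⟩
        refine hzy (polar (β z y') (β y' z) fun c => ?_)
        have := hall' (z + c • y') fun x hx' => by rw [hlin, hz x hx', hy'0 x hx', mul_zero, add_zero]
        rw [hlin, hlinr, hlinr, hall' z hz, hall' y' hy'0] at this
        simpa [mul_add, add_comm] using this
      refine ⟨xs ++ [w], ?_, Or.inl (by simp [hk])⟩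
      intro i hi j hj
      rw [List.length_append, List.length_singleton] at hi hj
      rcases Nat.lt_or_ge i xs.length with hi' | hi' <;> rcases Nat.lt_or_ge j xs.length with hj' | hj'
      · rw [List.getElem_append_left hi', List.getElem_append_left hj']; exact hg i hi' j hj'
      · obtain rfl : j = xs.length := by omega
        rw [List.getElem_append_left hi', List.getElem_append_right le_rfl, if_neg (by omega)]
        simp only [Nat.sub_self, List.getElem_cons_zero]
        rw [β_conj, hw0 _ (List.getElem_mem hi')]; decide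
      · obtain rfl : i = xs.length := by omega
        rw [List.getElem_append_right le_rfl, List.getElem_append_left hj', if_neg (by omega)]
        simp only [Nat.sub_self, List.getElem_cons_zero]
        exact hw0 _ (List.getElem_mem hj')
      · obtain rfl : i = xs.length := by omega
        obtain rfl : j = xs.length := by omega
        simp only [List.getElem_append_right le_rfl, Nat.sub_self, List.getElem_cons_zero, hw1, if_pos]
  obtain ⟨xs, hg, hx⟩ := hdone 4
  have hlen := frame_length (hframe xs hg)
  rw [List.length_map] at hlen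
  have hall := hx.resolve_left (by omega)
  refine ⟨xs.map N, hframe xs hg, eq_of_mulVec fun x => ?_⟩
  have hiso : ∀ v ∈ xs.map N, hf v v = 0 := fun v hv => (hframe xs hg).orth v hv v hv
  rw [prod_apply _ hiso (hframe xs hg).orth, tN]
  congr 1
  set z := x + (xs.map fun p => β x p • p).sum with hzdef
  have hN : ∀ us : List (Fin 6 → F4), N (us.map fun p => β x p • p).sum = (us.map fun p => β x p • N p).sum := by
    intro us
    induction us with
    | nil => simpa using N_zero
    | cons u us ih => rw [List.map_cons, List.sum_cons, List.map_cons, List.sum_cons, N_add, N_smul, ih]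
  have hz0 : N z = 0 := by
    refine hall z fun p hp => ?_
    obtain ⟨j, hj, rfl⟩ := List.getElem_of_mem hp
    show hf (N z) _ = 0
    rw [hzdef, N_add, hf_add_left, hN]
    have h' := sum_form (xs.map fun q => (N q, β x q)) xs[j]
    simp only [List.map_map, Function.comp_def] at h'
    rw [h', ← Fin.sum_univ_fun_getElem, Finset.sum_eq_single (⟨j, hj⟩ : Fin xs.length)]
    · rw [show hf (N xs[j]) xs[j] = 1 from (hg j hj j hj).trans (if_pos rfl), mul_one]
      exact f4_add_self _
    · intro i _ hij
      rw [show hf (N xs[(i : ℕ)]) xs[j] = 0 from (hg i i.2 j hj).trans (if_neg fun e => hij (Fin.ext e)), mul_zero]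
    · simp
  rw [hzdef, N_add, hN] at hz0
  rw [add_eq_zero_iff_eq_neg.1 hz0, neg_eq_of_add_eq_zero_right (hdd _), List.map_map]
  refine congrArg List.sum (List.map_congr_left fun p _ => ?_)
  show hf (N x) p • N p = _
  rw [hadj]
  rfl

theorem Frame3.combo {v₁ v₂ v₃ : Fin 6 → F4} (h : Frame3 [v₁, v₂, v₃]) {a b c : F4}
    (e : a • v₁ + b • v₂ + c • v₃ = 0) : a = 0 ∧ b = 0 ∧ c = 0 := by
  have key : ∀ i (hi : i < 3), [a, b, c][i] = 0 := by
    intro i hi
    obtain ⟨x, hx⟩ := h.dual i (by simpa using hi)
    have e' := congrArg (hf x) e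
    rw [hf_add_right, hf_add_right, hf_smul_right, hf_smul_right, hf_smul_right, hf_zero_right] at e'
    have h0 := hx 0 (by simp); have h1 := hx 1 (by simp); have h2 := hx 2 (by simp)
    simp only [List.getElem_cons_zero, List.getElem_cons_succ] at h0 h1 h2
    rw [h0, h1, h2] at e'
    interval_cases i <;> simpa using e'
  exact ⟨key 0 (by norm_num), key 1 (by norm_num), key 2 (by norm_num)⟩

/-- The coefficient rows of the two further bases. -/
def altRows (l : F4) : List (F4 × F4 × F4) :=
  [(1, 1, l), (1, F4.om, F4.om * F4.om * l), (1, F4.om * F4.om, F4.om * l)]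

/-- A combination of the three vectors. -/
def comb (v₁ v₂ v₃ : Fin 6 → F4) (m : F4 × F4 × F4) : Fin 6 → F4 := m.1 • v₁ + m.2.1 • v₂ + m.2.2 • v₃

theorem comb_orth {v₁ v₂ v₃ : Fin 6 → F4} (h : Frame3 [v₁, v₂, v₃]) (m m' : F4 × F4 × F4) :
    hf (comb v₁ v₂ v₃ m) (comb v₁ v₂ v₃ m') = 0 := by
  simp [comb, hf_add_left, hf_add_right, hf_smul_left, hf_smul_right, h.orth v₁ (by simp) v₁ (by simp),
    h.orth v₁ (by simp) v₂ (by simp), h.orth v₁ (by simp) v₃ (by simp), h.orth v₂ (by simp) v₁ (by simp),
    h.orth v₂ (by simp) v₂ (by simp), h.orth v₂ (by simp) v₃ (by simp), h.orth v₃ (by simp) v₁ (by simp),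
    h.orth v₃ (by simp) v₂ (by simp), h.orth v₃ (by simp) v₃ (by simp)]

theorem alt_prod {v₁ v₂ v₃ : Fin 6 → F4} (h : Frame3 [v₁, v₂, v₃]) {l : F4} (hl : l ≠ 0) :
    (((altRows l).map (comb v₁ v₂ v₃)).map tsu).prod = ([v₁, v₂, v₃].map tsu).prod := by
  refine eq_of_mulVec fun x => ?_
  rw [prod_apply, prod_apply]
  · congr 1
    simp only [altRows, List.map_cons, List.map_nil, List.sum_cons, List.sum_nil, add_zero, comb, hf_add_right,
      hf_smul_right, one_pow, one_mul, one_smul]
    funext i
    simp only [Pi.add_apply, Pi.smul_apply, smul_eq_mul]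
    generalize hf x v₁ = A, hf x v₂ = B, hf x v₃ = C, v₁ i = p, v₂ i = q, v₃ i = r
    have key : ∀ A B C l : F4, l ≠ 0 →
        ((A + B + l ^ 2 * C) + ((A + F4.om ^ 2 * B + (F4.om * F4.om * l) ^ 2 * C) +
          (A + (F4.om * F4.om) ^ 2 * B + (F4.om * l) ^ 2 * C)) = A) ∧
        ((A + B + l ^ 2 * C) + ((A + F4.om ^ 2 * B + (F4.om * F4.om * l) ^ 2 * C) * F4.om +
          (A + (F4.om * F4.om) ^ 2 * B + (F4.om * l) ^ 2 * C) * (F4.om * F4.om)) = B) ∧
        ((A + B + l ^ 2 * C) * l + ((A + F4.om ^ 2 * B + (F4.om * F4.om * l) ^ 2 * C) * (F4.om * F4.om * l) +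
          (A + (F4.om * F4.om) ^ 2 * B + (F4.om * l) ^ 2 * C) * (F4.om * l)) = C) := by decide +kernel
    obtain ⟨k1, k2, k3⟩ := key A B C l hl
    linear_combination p * k1 + q * k2 + r * k3
  · exact fun v hv => h.orth v hv v hv
  · exact h.orth
  · intro v hv
    obtain ⟨m, -, rfl⟩ := List.mem_map.1 hv
    exact comb_orth h m m
  · intro v hv w hw
    obtain ⟨m, -, rfl⟩ := List.mem_map.1 hv
    obtain ⟨m', -, rfl⟩ := List.mem_map.1 hw
    exact comb_orth h m m'

/-- The image of an involution. -/
theorem q6_three {x : Q6} (h2 : x * x = 1) : ∃ vs, Frame3 vs ∧ x = (vs.map PV).prod := by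
  obtain ⟨g, rfl⟩ := QuotientGroup.mk_surjective x
  rw [← QuotientGroup.mk_mul, QuotientGroup.eq_one_iff] at h2
  have hc : Nat.card (Subgroup.center SU6) = 3 := by
    rw [CfsgLib.Classical.Herm.card_center_SU (q := 2) F4.card 6 (by norm_num)]
    rfl
  have h3 : (g * g) ^ 3 = 1 := by
    have := pow_card_eq_one' (x := (⟨g * g, h2⟩ : Subgroup.center SU6))
    rw [hc] at this
    exact congrArg Subtype.val this
  have hg : ((g * (g * g) : SU6) : Q6) = (g : Q6) := by
    rw [QuotientGroup.mk_mul, (QuotientGroup.eq_one_iff _).2 h2, mul_one]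
  obtain ⟨vs, hv, e⟩ := su_three (t := g * (g * g)) (by rw [← h3, pow_three]; simp only [mul_assoc])
  exact ⟨vs, hv, by rw [PV_prod, ← e, hg]⟩

end CfsgLib.Recog.FiM22.Factor
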