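import Cfsg.Agent.Lib.Recog.FiM22.Factor.Triples
import Cfsg.Agent.Lib.Recog.FiM22.Factor.Involutions
import Mathlib.GroupTheory.Perm.Cycle.Type

set_option autoImplicit false
set_option maxRecDepth 20000

/-!
The involutions of a group of type M(22) are the products of one, two or three commuting members
(owner: helper16).
-/

namespace CfsgLib.Recog.FiM22.Factor

open Cfsg CfsgLib.ThreeTrans CfsgLib.Recog.SporBound

universe u

variable {G : Type u} [Group G] [Finite G] {D : Set G} {a : G}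

/-- An involution commutes with some member. -/
theorem exists_fixed (B : Base D a) {x : G} (hx : orderOf x = 2) : ∃ d ∈ D, Commute x d := by
  classical
  by_contra hno
  push Not at hno
  haveI : Fintype D := Fintype.ofFinite D
  let σ : G →* Equiv.Perm D :=
    MonoidHom.mk' (fun g => (MulAut.conj g).toEquiv.subtypeEquiv fun d =>
      ⟨fun h => B.grp.2.1 g d h, fun h => by simpa [mul_assoc] using B.grp.2.1 g⁻¹ _ h⟩) fun g h => by
      ext d
      simp [mul_assoc]
  have hmove : ∀ d : D, σ x d ≠ d := fun d e => hno d d.2 (mul_inv_eq_iff_eq_mul.1 (congrArg Subtype.val e))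
  have hx2 : x * x = 1 := by rw [← pow_two, ← hx, pow_orderOf_eq_one]
  have hσ2 : σ x ^ 2 = 1 := by rw [← map_pow, pow_two, hx2, map_one]
  have hone : Equiv.Perm.sign (σ x) = 1 := by
    obtain ⟨e, -, -⟩ := identify B
    haveI := Fi22Group.isSimple
    haveI : Nontrivial G := ⟨⟨a, 1, ne_one B.set3 B.mem⟩⟩
    haveI : IsSimpleGroup G := IsSimpleGroup.isSimpleGroup_of_surjective e.toMonoidHom e.surjective
    let s : G →* ℤˣ := Equiv.Perm.sign.comp σ
    rcases s.normal_ker.eq_bot_or_eq_top with h | h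
    · exfalso
      have hinj := (MonoidHom.ker_eq_bot_iff s).1 h
      obtain ⟨y, hy⟩ := B.nbrs_nonempty
      obtain ⟨f, hf, haf, -⟩ := B.exists_far hy
      exact haf (hinj (by rw [map_mul, map_mul, mul_comm]))
    · exact MonoidHom.mem_ker.1 (h ▸ Subgroup.mem_top x : x ∈ s.ker)
  have hsupp : (σ x).support.card = 3510 := by
    rw [show (σ x).support = Finset.univ from Finset.eq_univ_iff_forall.2 fun d => Equiv.Perm.mem_support.2 (hmove d),
      Finset.card_univ, ← Nat.card_eq_fintype_card, Nat.card_coe_set_eq, (card_class B).1]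
  have hct : ∀ n ∈ (σ x).cycleType, n = 2 := fun n hn => by
    have h1 := Equiv.Perm.dvd_of_mem_cycleType hn
    have h2 := Equiv.Perm.two_le_of_mem_cycleType hn
    have h3 : orderOf (σ x) ∣ 2 := orderOf_dvd_of_pow_eq_one hσ2
    exact le_antisymm (Nat.le_of_dvd (by norm_num) (h1.trans h3)) h2
  have hsum : (σ x).cycleType.sum = 2 * Multiset.card (σ x).cycleType := by
    rw [Multiset.eq_replicate_card.2 hct, Multiset.sum_replicate, Multiset.card_replicate, smul_eq_mul, mul_comm]
  have hk : Multiset.card (σ x).cycleType = 1755 := by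
    have := Equiv.Perm.sum_cycleType (σ x)
    omega
  rw [Equiv.Perm.sign_of_cycleType, hsum, hk] at hone
  exact absurd hone (by norm_num)

/-- The member lies in the subgroup of its neighbours, which is its centralizer. -/
theorem centralizer_eq (B : Base D a) {b : G} (P : Pre D a b) :
    Subgroup.centralizer ({a} : Set G) = Subgroup.closure (nb D a) ∧
      ∀ y ∈ Subgroup.closure (nb D a), ∀ hy : y ∈ Subgroup.closure (nb D a),
        P.iso (QuotientGroup.mk ⟨y, hy⟩) = 1 → y = 1 ∨ y = a := by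
  classical
  have hle : Subgroup.closure (nb D a) ≤ Subgroup.centralizer ({a} : Set G) := by
    rw [Subgroup.closure_le]
    intro y hy
    rw [SetLike.mem_coe, Subgroup.mem_centralizer_singleton_iff]
    exact hy.2.2.eq.symm
  obtain ⟨e, he⟩ := P.exists_noncentral
  have ha : a ∈ Subgroup.closure (nb D a) := by
    obtain ⟨r, hr, her⟩ := P.img_T he
    obtain ⟨t, ht, hadj⟩ : ∃ t < 693, t ≠ r ∧ com r t = true := by
      by_contra hno
      push Not at hno
      have h' : ∀ z < 693, z = r := fun z hz => double_perp hr hz fun t ht htr hc => absurd hc (hno t ht htr)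
      exact absurd ((h' 0 (by norm_num)).trans (h' 1 (by norm_num)).symm) (by norm_num)
    obtain ⟨f, hf, -, hft⟩ := P.cover (fun _ => True) (fun _ _ _ => trivial) he trivial t ht
    have hef : e ≠ f := fun h => hadj.1 (T_inj ht hr (by subst h; rw [← hft, ← her]))
    have hc : Commute e f := by
      refine (im_commute P.grp.1 he hf.1).1 ?_
      have := (com_iff hr ht).1 hadj.2
      rw [← her, ← hft] at this
      simpa using this.map P.iso.symm.toMonoidHom
    obtain ⟨u, v, w, h6, h6p⟩ := six_exists B.prim P he.1 hf.1 hef hc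
    rw [List.prod_cons] at h6p
    have hq : [e, f, u, v, w].prod ∈ Subgroup.closure (nb D a) :=
      list_prod_mem fun x hx => Subgroup.subset_closure ⟨h6.mem x (List.mem_cons_of_mem _ hx),
        fun e' => (List.nodup_cons.1 h6.nodup).1 (by subst e'; exact hx),
        h6.comm a List.mem_cons_self x (List.mem_cons_of_mem _ hx)⟩
    rw [eq_inv_of_mul_eq_one_right h6p, inv_eq P.grp.1 P.mema] at hq
    exact hq
  set H := Subgroup.closure (nb D a) with hH
  have hconj : conjugatesOf a = D := by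
    ext x
    constructor
    · intro hx
      obtain ⟨g, rfl⟩ := isConj_iff.1 hx
      exact P.grp.2.1 g a P.mema
    · intro hx
      exact isConj_iff.2 (B.prim.1 a P.mema x hx)
  have hC : Nat.card ↥(Subgroup.centralizer ({a} : Set G)) = 2 * 9196830720 := by
    have h1 := MulAction.index_stabilizer (ConjAct G) a
    have e1 : MulAction.orbit (ConjAct G) a = D := by
      rw [← hconj]
      ext x
      rw [ConjAct.mem_orbit_conjAct]
      exact isConj_comm
    have e2 : (MulAction.stabilizer (ConjAct G) a).index = (Subgroup.centralizer ({a} : Set G)).index := by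
      rw [ConjAct.stabilizer_eq_centralizer]
      rfl
    rw [e1, e2, (card_class B).1] at h1
    have h2 := Subgroup.index_mul_card (Subgroup.centralizer ({a} : Set G))
    rw [h1, (card_class B).2] at h2
    omega
  let φ : ↥H →* Q6 := P.iso.toMonoidHom.comp (QuotientGroup.mk' _)
  have hsurj : Function.Surjective φ := P.iso.surjective.comp (QuotientGroup.mk'_surjective _)
  have hmul : Nat.card ↥H = 9196830720 * Nat.card φ.ker := by
    rw [Subgroup.card_eq_card_quotient_mul_card_subgroup φ.ker,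
      Nat.card_congr (QuotientGroup.quotientKerEquivOfSurjective φ hsurj).toEquiv]
    rw [show Nat.card Q6 = 9196830720 from Fi22U6.card_psu]
  have hak : (⟨a, ha⟩ : ↥H) ∈ φ.ker := by
    refine P.iso.map_eq_one_iff.2 ((QuotientGroup.eq_one_iff _).2 ?_)
    rw [Subgroup.mem_center_iff]
    rintro ⟨y, hy⟩
    exact Subtype.ext (RankThree.commute_closure (fun _ hz => hz.2.2) hy).eq.symm
  have hne : (⟨a, ha⟩ : ↥H) ≠ 1 := fun h => ne_one P.grp.1 P.mema (congrArg Subtype.val h)
  have hk2 : 2 ≤ Nat.card φ.ker := by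
    haveI : Nontrivial φ.ker := ⟨⟨⟨_, hak⟩, 1, fun h => hne (congrArg Subtype.val h)⟩⟩
    exact Finite.one_lt_card
  have hHle := Subgroup.card_le_of_le hle
  rw [hC, hmul] at hHle
  have hk : Nat.card φ.ker = 2 := by omega
  have heq : H = Subgroup.centralizer ({a} : Set G) :=
    Subgroup.eq_of_le_of_card_ge hle (by rw [hC, hmul, hk])
  refine ⟨heq.symm, fun y _ hy hy1 => ?_⟩
  obtain ⟨⟨u, hu⟩, hne', huniq⟩ := (Nat.card_eq_two_iff' (1 : φ.ker)).1 hk
  by_cases h1 : y = 1
  · exact Or.inl h1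
  right
  have e1 := huniq ⟨⟨y, hy⟩, hy1⟩ fun h => h1 (congrArg (fun z : φ.ker => ((z : ↥H) : G)) h)
  have e2 := huniq ⟨⟨a, ha⟩, hak⟩ fun h => hne (congrArg Subtype.val h)
  exact congrArg (fun z : φ.ker => ((z : ↥H) : G)) (e1.trans e2.symm)

/-- Two short commuting lists with one product and different lengths give a relation. -/
theorem length_unique (hS : IsThreeTranspositionSet D) (h3 : NoRel D 3) (h4 : NoRel D 4) (h5 : NoRel D 5)
    {l l' : List G} (h : ComList D l) (h' : ComList D l') (hl : 1 ≤ l.length) (hlt : l.length < l'.length)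
    (hl' : l'.length ≤ 3) (heq : l.prod = l'.prod) : False := by
  classical
  have hx : ∀ x ∈ l', ∀ y ∈ l, Commute x y := h.commute_all hS h' (by omega) heq.symm
  have hall : ∀ x ∈ l ++ l', ∀ y ∈ l ++ l', Commute x y := by
    intro x hx' y hy'
    rcases List.mem_append.1 hx' with p | p <;> rcases List.mem_append.1 hy' with q | q
    exacts [h.comm x p y q, (hx y q x p).symm, hx x p y q, h'.comm x p y q]
  have hpw : ∀ u : List G, (∀ x ∈ u, x ∈ l ++ l') → u.Pairwise Commute := fun u hu =>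
    List.pairwise_of_forall_mem_list fun x hx' y hy' => hall x (hu x hx') y (hu y hy')
  let c := l.filter fun x => decide (x ∈ l')
  let c' := l'.filter fun x => decide (x ∈ l)
  let d := l.filter fun x => decide (x ∉ l')
  let d' := l'.filter fun x => decide (x ∉ l)
  have hp : (c ++ d).Perm l := by simpa only [c, d, decide_not] using List.filter_append_perm _ l
  have hp' : (c' ++ d').Perm l' := by simpa only [c', d', decide_not] using List.filter_append_perm _ l'
  have hcc : c.Perm c' := (List.perm_ext_iff_of_nodup (h.nodup.filter _) (h'.nodup.filter _)).2 fun x => by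
    simp [c, c', and_comm]
  have e1 : c.prod * d.prod = l.prod := by rw [← List.prod_append, hp.prod_eq' (hpw _ fun x hx' =>
    List.mem_append_left _ (hp.subset hx'))]
  have e2 : c'.prod * d'.prod = l'.prod := by rw [← List.prod_append, hp'.prod_eq' (hpw _ fun x hx' =>
    List.mem_append_right _ (hp'.subset hx'))]
  have e3 : c.prod = c'.prod := hcc.prod_eq' (hpw _ fun x hx' => List.mem_append_left _ (List.mem_filter.1 hx').1)
  have hd : d.prod = d'.prod := mul_left_cancel (a := c.prod) (by rw [e1, heq, ← e2, e3])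
  have hsub : ∀ z ∈ d ++ d', z ∈ l ++ l' := fun z hz => by
    rcases List.mem_append.1 hz with p | p
    exacts [List.mem_append_left _ (List.mem_filter.1 p).1, List.mem_append_right _ (List.mem_filter.1 p).1]
  have hu : ComList D (d ++ d') := by
    refine ⟨List.nodup_append.2 ⟨h.nodup.filter _, h'.nodup.filter _, ?_⟩, ?_, ?_⟩
    · intro x hx' y hy' e
      subst e
      simp [d, d'] at hx' hy'
      exact hx'.2 hy'.1
    · intro x hx'
      rcases List.mem_append.1 (hsub x hx') with p | p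
      exacts [h.mem x p, h'.mem x p]
    · exact fun x hx' y hy' => hall x (hsub x hx') y (hsub y hy')
  have hprod : (d ++ d').prod = 1 := by
    rw [List.prod_append, hd, (h'.sub (h'.nodup.filter _) fun x hx' => (List.mem_filter.1 hx').1).prod_sq hS]
  have hlen : (d ++ d').length ≤ 5 ∧ 1 ≤ (d ++ d').length := by
    have := hp.length_eq; have := hp'.length_eq; have := hcc.length_eq
    simp only [List.length_append] at *
    omega
  generalize hn : (d ++ d').length = n at hlen
  obtain ⟨hn5, hn1⟩ := hlen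
  interval_cases n
  · obtain ⟨x, hx'⟩ := List.length_eq_one_iff.1 hn
    rw [hx', List.prod_singleton] at hprod
    exact ne_one hS (hu.mem x (by simp [hx'])) hprod
  · exact noRel_two hS _ hu hn hprod
  · exact h3 _ hu hn hprod
  · exact h4 _ hu hn hprod
  · exact h5 _ hu hn hprod

/-- The vectors of the three bases. -/
def baseRow (b i : Fin 3) : Fi22U6.F4 × Fi22U6.F4 × Fi22U6.F4 :=
  ![![(1, 0, 0), (0, 1, 0), (0, 0, 1)],
    ![(1, 1, 1), (1, Fi22U6.F4.om, Fi22U6.F4.om * Fi22U6.F4.om * 1), (1, Fi22U6.F4.om * Fi22U6.F4.om, Fi22U6.F4.om * 1)],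
    ![(1, 1, Fi22U6.F4.om), (1, Fi22U6.F4.om, Fi22U6.F4.om * Fi22U6.F4.om * Fi22U6.F4.om),
      (1, Fi22U6.F4.om * Fi22U6.F4.om, Fi22U6.F4.om * Fi22U6.F4.om)]] b i

/-- Each of the three bases has a vector in neither of the others. -/
theorem bases_differ (b : Fin 3) (b' : Fin 3) (h : b ≠ b') :
    ∃ i : Fin 3, ∀ i' : Fin 3, ∀ c : Fi22U6.F4, baseRow b' i' ≠ (c * (baseRow b i).1, c * (baseRow b i).2.1,
      c * (baseRow b i).2.2) := by
  revert b b'; decide +kernel

/-- Every involution is a product of at most three commuting members. -/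
theorem involution_short (hD : IsThreeTranspositionGroup D) (hprim : IsPrimitiveUnderConj D) (d₀ : G) (hd₀ : d₀ ∈ D)
    (h3 : Cfsg.pCore 3 ↥(Subgroup.closure (nbrs D d₀)) ≤ Subgroup.center ↥(Subgroup.closure (nbrs D d₀)))
    (h2 : Cfsg.pCore 2 ↥(Subgroup.closure (nbrs D d₀)) ≤ Subgroup.center ↥(Subgroup.closure (nbrs D d₀)))
    (h22 : IsOfTypeM22 G D) (B : Base D a) {b : G} (P : Pre D a b) {x : G} (hx : orderOf x = 2)
    (hxa : Commute x a) : ∃ l, ComList D l ∧ 1 ≤ l.length ∧ l.length ≤ 3 ∧ l.prod = x := by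
  classical
  have hS := P.grp.1
  obtain ⟨hC, hker⟩ := centralizer_eq B P
  have hxH : x ∈ Subgroup.closure (nb D a) := hC ▸ Subgroup.mem_centralizer_singleton_iff.2 hxa.eq
  have hxx : x * x = 1 := by rw [← pow_two, ← hx, pow_orderOf_eq_one]
  have hx1 : x ≠ 1 := fun e => by rw [e, orderOf_one] at hx; omega
  set X : Q6 := P.iso (QuotientGroup.mk ⟨x, hxH⟩) with hX
  have hX2 : X * X = 1 := by
    rw [hX, ← map_mul, ← QuotientGroup.mk_mul,
      show (⟨x, hxH⟩ : ↥(Subgroup.closure (nb D a))) * ⟨x, hxH⟩ = 1 from Subtype.ext hxx, QuotientGroup.mk_one,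
      map_one]
  obtain ⟨vs, hvs, hXv⟩ := q6_three hX2
  obtain ⟨e, he⟩ := P.exists_noncentral
  -- members over isotropic vectors
  have hlift : ∀ v : Fin 6 → Fi22U6.F4, ∃ g : G, v ≠ 0 → hf v v = 0 → ∃ (hg : g ∈ nb D a) (r : ℕ) (l : Fi22U6.F4),
      r < 693 ∧ l ≠ 0 ∧ v = l • vec (code r) ∧ P.iso (im hg) = T r := by
    intro v
    by_cases hv : v ≠ 0 ∧ hf v v = 0
    · obtain ⟨r, hr, l, hl, e'⟩ := point_of hv.1 hv.2
      obtain ⟨g, hg, -, hgr⟩ := P.cover (fun _ => True) (fun _ _ _ => trivial) he trivial r hr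
      exact ⟨g, fun _ _ => ⟨hg.1, r, l, hr, hl, e', hgr⟩⟩
    · exact ⟨1, fun h1 h2 => absurd ⟨h1, h2⟩ hv⟩
  choose M hM using hlift
  have hPV : ∀ v, v ≠ 0 → hf v v = 0 → ∀ hg : M v ∈ nb D a, P.iso (im hg) = PV v := by
    intro v h1 h2 hg
    obtain ⟨_, r, l, hr, hl, e', hgr⟩ := hM v h1 h2
    rw [hgr, e', PV, Fi22U6.tsu_smul (dot_iso hr) hl]
    rfl
  -- the lift of a frame
  have hlist : ∀ ws : List (Fin 6 → Fi22U6.F4), (∀ w ∈ ws, w ≠ 0) → (∀ v ∈ ws, ∀ w ∈ ws, hf v w = 0) →
      ws.Pairwise (fun v w => ∀ c : Fi22U6.F4, w ≠ c • v) → ComList D (ws.map M) ∧ (∀ g ∈ ws.map M, g ∈ nb D a) ∧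
        ((ws.map PV).prod = X → (ws.map M).prod = x ∨ (ws.map M).prod = a * x) := by
    intro ws h0 ho hpr
    have hmem : ∀ g ∈ ws.map M, g ∈ nb D a := by
      intro g hg
      obtain ⟨v, hv, rfl⟩ := List.mem_map.1 hg
      exact (hM v (h0 v hv) (ho v hv v hv)).1
    refine ⟨⟨?_, fun g hg => (hmem g hg).1, ?_⟩, hmem, ?_⟩
    · rw [List.Nodup, List.pairwise_map]
      refine hpr.imp_of_mem fun {v w} hv hw hne e' => ?_
      obtain ⟨g1, r, l, hr, hl, ev, er⟩ := hM v (h0 v hv) (ho v hv v hv)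
      obtain ⟨g2, s, m, hs, hm, ew, es⟩ := hM w (h0 w hw) (ho w hw w hw)
      have hrs : r = s := T_inj hr hs (er.symm.trans ((congrArg P.iso (by simp only [im, e'])).trans es))
      subst hrs
      exact hne (m * l⁻¹) (by rw [ew, ev, smul_smul, mul_assoc, inv_mul_cancel₀ hl, mul_one])
    · intro g hg g' hg'
      obtain ⟨v, hv, rfl⟩ := List.mem_map.1 hg
      obtain ⟨w, hw, rfl⟩ := List.mem_map.1 hg'
      obtain ⟨g1, r, l, hr, hl, ev, er⟩ := hM v (h0 v hv) (ho v hv v hv)
      obtain ⟨g2, s, m, hs, hm, ew, es⟩ := hM w (h0 w hw) (ho w hw w hw)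
      refine (im_commute hS (P.noncentral g1) g2).1 ?_
      have hz := ho w hw v hv
      rw [ev, ew, hf_smul_left, hf_smul_right] at hz
      have hz' : hf (vec (code s)) (vec (code r)) = 0 :=
        (mul_eq_zero.1 ((mul_eq_zero.1 hz).resolve_left hm)).resolve_left (pow_ne_zero 2 hl)
      have hd : dot (code s) (code r) = 0 := by
        have h1 := dot_spec (code s) (code r)
        exact (ofNat4_eq ⟨_, h1.1⟩).1.1 (h1.2.trans hz')
      have hcom : Commute (T r) (T s) := by
        rw [← com_iff hr hs, com_def, hd]; rfl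
      rw [← er, ← es] at hcom
      simpa using hcom.map P.iso.symm.toMonoidHom
    · intro hp
      have hin : (ws.map M).prod ∈ Subgroup.closure (nb D a) :=
        list_prod_mem fun g hg => Subgroup.subset_closure (hmem g hg)
      have himg : ∀ us : List (Fin 6 → Fi22U6.F4), (∀ u ∈ us, u ∈ ws) →
          ∀ h : (us.map M).prod ∈ Subgroup.closure (nb D a),
            P.iso (QuotientGroup.mk ⟨(us.map M).prod, h⟩) = (us.map PV).prod := by
        intro us hus
        induction us with
        | nil => intro h; exact map_one P.iso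
        | cons u us ih =>
          intro h
          have hu := hus u List.mem_cons_self
          have hgu := hmem _ (List.mem_map.2 ⟨u, hu, rfl⟩)
          have hrest : (us.map M).prod ∈ Subgroup.closure (nb D a) := list_prod_mem fun g hg => by
            obtain ⟨w, hw, rfl⟩ := List.mem_map.1 hg
            exact Subgroup.subset_closure (hmem _ (List.mem_map.2 ⟨w, hus w (List.mem_cons_of_mem _ hw), rfl⟩))
          have heq : (⟨((u :: us).map M).prod, h⟩ : ↥(Subgroup.closure (nb D a))) =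
              ⟨M u, Subgroup.subset_closure hgu⟩ * ⟨(us.map M).prod, hrest⟩ := Subtype.ext (by simp)
          rw [heq, QuotientGroup.mk_mul, map_mul, ih (fun w hw => hus w (List.mem_cons_of_mem _ hw)) hrest,
            List.map_cons (f := PV), List.prod_cons]
          rw [← hPV u (h0 u hu) (ho u hu u hu) hgu]
          rfl
      have h1 : P.iso (QuotientGroup.mk (⟨x, hxH⟩ * ⟨(ws.map M).prod, hin⟩ : ↥(Subgroup.closure (nb D a)))) = 1 := by
        rw [QuotientGroup.mk_mul, map_mul, himg ws (fun u h => h) hin, hp, ← hX, hX2]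
      have hm : x * (ws.map M).prod ∈ Subgroup.closure (nb D a) := mul_mem hxH hin
      rcases hker _ hm hm h1 with h | h
      · left
        rw [eq_inv_of_mul_eq_one_right h]
        exact inv_eq_of_mul_eq_one_right hxx
      · right
        have hax : x * a = a * x := hxa.eq
        calc (ws.map M).prod = x * (x * (ws.map M).prod) := by rw [← mul_assoc, hxx, one_mul]
          _ = a * x := by rw [h, hax]
  have hane : ∀ {l : List G}, ComList D l → (∀ g ∈ l, g ∈ nb D a) → ComList D (a :: l) := by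
    intro l hl hmem
    refine ⟨List.nodup_cons.2 ⟨fun h => (hmem a h).2.1 rfl, hl.nodup⟩, ?_, ?_⟩
    · exact fun g hg => (List.mem_cons.1 hg).elim (fun e' => e' ▸ P.mema) (hl.mem g)
    · intro g hg g' hg'
      rcases List.mem_cons.1 hg with e₁ | hg <;> rcases List.mem_cons.1 hg' with e₂ | hg'
      exacts [e₁ ▸ e₂ ▸ Commute.refl _, e₁ ▸ (hmem _ hg').2.2, e₂ ▸ (hmem _ hg).2.2.symm, hl.comm _ hg _ hg']
  have hlen := frame_length hvs
  by_cases hv0 : vs = []
  · subst hv0
    rcases hker x hxH hxH (by rw [← hX, hXv]; rfl) with h | h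
    · exact absurd h hx1
    · exact ⟨[a], ⟨by simp, by simp [P.mema], by simp⟩, le_rfl, by simp, by simp [h]⟩
  have hne0 : ∀ w ∈ vs, w ≠ 0 := by
    intro w hw e'
    obtain ⟨i, hi, rfl⟩ := List.getElem_of_mem hw
    obtain ⟨y, hy⟩ := hvs.dual i hi
    have := hy i hi
    rw [e', hf_zero_right, if_pos rfl] at this
    exact zero_ne_one this
  have hpair : vs.Pairwise fun v w => ∀ c : Fi22U6.F4, w ≠ c • v := by
    rw [List.pairwise_iff_getElem]
    intro i j hi hj hij c e'
    obtain ⟨y, hy⟩ := hvs.dual j hj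
    have h1 := hy j hj
    rw [e', hf_smul_right, hy i hi, if_neg (by omega), mul_zero, if_pos rfl] at h1
    exact zero_ne_one h1
  obtain ⟨hl, hln, hlp⟩ := hlist vs hne0 hvs.orth hpair
  have hml : (vs.map M).length = vs.length := List.length_map M
  have hpos : 1 ≤ vs.length := List.length_pos_iff.2 hv0
  rcases hlp hXv.symm with h | h
  · exact ⟨_, hl, by omega, by omega, h⟩
  by_cases hthree : vs.length ≤ 2
  · refine ⟨a :: vs.map M, hane hl hln, by simp, by simp; omega, ?_⟩
    rw [List.prod_cons, h, mul_self_assoc hS P.mema]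
  -- three points: one of three bases gives the product itself
  obtain ⟨v₁, v₂, v₃, rfl⟩ : ∃ v₁ v₂ v₃, vs = [v₁, v₂, v₃] := by
    have : vs.length = 3 := by omega
    match vs, this with
    | [v₁, v₂, v₃], _ => exact ⟨v₁, v₂, v₃, rfl⟩
  by_contra hno
  have hcomb : ∀ (m m' : Fi22U6.F4 × Fi22U6.F4 × Fi22U6.F4) (c : Fi22U6.F4),
      comb v₁ v₂ v₃ m' = c • comb v₁ v₂ v₃ m → m' = (c * m.1, c * m.2.1, c * m.2.2) := by
    intro m m' c e'
    obtain ⟨h1', h2', h3'⟩ := hvs.combo (a := m'.1 - c * m.1) (b := m'.2.1 - c * m.2.1) (c := m'.2.2 - c * m.2.2) (by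
      simp only [comb] at e'
      linear_combination (norm := module) e')
    exact Prod.ext (sub_eq_zero.1 h1') (Prod.ext (sub_eq_zero.1 h2') (sub_eq_zero.1 h3'))
  have hv123 : [v₁, v₂, v₃] = [(1, 0, 0), (0, 1, 0), (0, 0, 1)].map (comb v₁ v₂ v₃) := by simp [comb]
  let R : List (List (Fi22U6.F4 × Fi22U6.F4 × Fi22U6.F4)) :=
    [[(1, 0, 0), (0, 1, 0), (0, 0, 1)], altRows 1, altRows Fi22U6.F4.om]
  have hrows : ∀ ms ∈ R, ms.Pairwise fun m m' => ∀ c : Fi22U6.F4, m' ≠ (c * m.1, c * m.2.1, c * m.2.2) := by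
    decide +kernel
  have hnz : ∀ ms ∈ R, ∀ m ∈ ms, m ≠ (0, 0, 0) := by decide +kernel
  have hR : ∀ ms ∈ R, ((ms.map (comb v₁ v₂ v₃)).map PV).prod = X := by
    intro ms hms
    rw [hXv, PV_prod, PV_prod]
    refine congrArg _ ?_
    simp only [R, List.mem_cons, List.not_mem_nil, or_false] at hms
    rcases hms with rfl | rfl | rfl
    · rw [← hv123]
    · exact alt_prod hvs one_ne_zero
    · exact alt_prod hvs (by decide +kernel)
  have hsets : ∀ ms ∈ R, ComList D ((ms.map (comb v₁ v₂ v₃)).map M) ∧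
      ((ms.map (comb v₁ v₂ v₃)).map M).prod = a * x ∧ ((ms.map (comb v₁ v₂ v₃)).map M).length = 3 := by
    intro ms hms
    obtain ⟨c1, c2, c3⟩ := hlist (ms.map (comb v₁ v₂ v₃))
      (by
        intro w hw e'
        obtain ⟨m, hm, rfl⟩ := List.mem_map.1 hw
        obtain ⟨k1, k2, k3⟩ := hvs.combo (a := m.1) (b := m.2.1) (c := m.2.2) e'
        exact hnz ms hms m hm (Prod.ext k1 (Prod.ext k2 k3)))
      (by
        intro v hv w hw
        obtain ⟨m, -, rfl⟩ := List.mem_map.1 hv
        obtain ⟨m', -, rfl⟩ := List.mem_map.1 hw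
        exact comb_orth hvs m m')
      (by
        rw [List.pairwise_map]
        exact (hrows ms hms).imp fun {m m'} hm c e' => hm c (hcomb m m' c e'))
    have hlen3 : ((ms.map (comb v₁ v₂ v₃)).map M).length = 3 := by
      simp only [R, List.mem_cons, List.not_mem_nil, or_false] at hms
      rcases hms with rfl | rfl | rfl <;> simp [altRows]
    refine ⟨c1, (c3 (hR ms hms)).resolve_left fun h' => ?_, hlen3⟩
    exact hno ⟨_, c1, by omega, by omega, h'⟩
  -- different bases give different sets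
  have hfirst : ∀ ms ∈ R, ∀ ms' ∈ R, ms ≠ ms' → ∃ m ∈ ms, ∀ m' ∈ ms', ∀ c : Fi22U6.F4,
      m' ≠ (c * m.1, c * m.2.1, c * m.2.2) := by
    intro ms hms ms' hms' hne
    obtain ⟨b, rfl⟩ : ∃ b : Fin 3, ms = List.ofFn (baseRow b) := by
      simp only [R, List.mem_cons, List.not_mem_nil, or_false] at hms
      rcases hms with rfl | rfl | rfl
      exacts [⟨0, rfl⟩, ⟨1, rfl⟩, ⟨2, rfl⟩]
    obtain ⟨b', rfl⟩ : ∃ b : Fin 3, ms' = List.ofFn (baseRow b) := by
      simp only [R, List.mem_cons, List.not_mem_nil, or_false] at hms'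
      rcases hms' with rfl | rfl | rfl
      exacts [⟨0, rfl⟩, ⟨1, rfl⟩, ⟨2, rfl⟩]
    obtain ⟨i, hi⟩ := bases_differ b b' fun e' => hne (by rw [e'])
    refine ⟨_, List.mem_ofFn.2 ⟨i, rfl⟩, fun m' hm' c => ?_⟩
    obtain ⟨i', rfl⟩ := List.mem_ofFn.1 hm'
    exact hi i' c
  have hdiff : ∀ ms ∈ R, ∀ ms' ∈ R, ms ≠ ms' → ¬ ∀ g, g ∈ (ms.map (comb v₁ v₂ v₃)).map M ↔
      g ∈ (ms'.map (comb v₁ v₂ v₃)).map M := by
    intro ms hms ms' hms' hne hsame
    obtain ⟨m, hm, hm'⟩ := hfirst ms hms ms' hms' hne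
    obtain ⟨w, hw, e'⟩ := List.mem_map.1 ((hsame _).1 (List.mem_map.2 ⟨_, List.mem_map.2 ⟨m, hm, rfl⟩, rfl⟩))
    obtain ⟨m', hmm', rfl⟩ := List.mem_map.1 hw
    have h0 : ∀ ms ∈ R, ∀ m ∈ ms, comb v₁ v₂ v₃ m ≠ 0 := fun ms hms m hm e'' => by
      obtain ⟨k1, k2, k3⟩ := hvs.combo (a := m.1) (b := m.2.1) (c := m.2.2) e''
      exact hnz ms hms m hm (Prod.ext k1 (Prod.ext k2 k3))
    obtain ⟨g1, r, l, hr, hl', ev, er⟩ := hM _ (h0 ms hms m hm) (comb_orth hvs m m)
    obtain ⟨g2, s, k, hs, hk, ew, es⟩ := hM _ (h0 ms' hms' m' hmm') (comb_orth hvs m' m')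
    have hrs : r = s := T_inj hr hs (er.symm.trans ((congrArg P.iso (by simp only [im, e'])).trans es))
    subst hrs
    refine hm' m' hmm' (k * l⁻¹) (hcomb m m' _ ?_)
    rw [ew, ev, smul_smul, mul_assoc, inv_mul_cancel₀ hl', mul_one]
  obtain ⟨c₀, p₀, n₀⟩ := hsets _ (List.mem_cons_self : R.head (by simp [R]) ∈ R)
  obtain ⟨l₁, l₂, -, -, -, hall⟩ := (Cfsg.Agent.S5463.result hD hprim d₀ hd₀ h3 h2 h22).2 (a * x) _
    ⟨c₀.nodup, n₀, c₀.mem, c₀.comm, p₀⟩
  have hone : ∀ ms ∈ R, (∀ g, g ∈ (ms.map (comb v₁ v₂ v₃)).map M ↔ g ∈ l₁) ∨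
      (∀ g, g ∈ (ms.map (comb v₁ v₂ v₃)).map M ↔ g ∈ l₂) := fun ms hms => by
    obtain ⟨c1, c2, c3⟩ := hsets ms hms
    exact hall _ ⟨c1.nodup, c3, c1.mem, c1.comm, c2⟩
  have hm1 : R.head (by simp [R]) ∈ R := List.mem_cons_self
  have hm2 : altRows 1 ∈ R := by simp [R]
  have hm3 : altRows Fi22U6.F4.om ∈ R := by simp [R]
  have n12 : R.head (by simp [R]) ≠ altRows 1 := by decide +kernel
  have n13 : R.head (by simp [R]) ≠ altRows Fi22U6.F4.om := by decide +kernel
  have n23 : altRows 1 ≠ altRows Fi22U6.F4.om := by decide +kernel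
  rcases hone _ hm1 with a1 | a1 <;> rcases hone _ hm2 with a2 | a2 <;> rcases hone _ hm3 with a3 | a3
  all_goals first
    | exact hdiff _ hm1 _ hm2 n12 fun g => (a1 g).trans (a2 g).symm
    | exact hdiff _ hm1 _ hm3 n13 fun g => (a1 g).trans (a3 g).symm
    | exact hdiff _ hm2 _ hm3 n23 fun g => (a2 g).trans (a3 g).symm

end CfsgLib.Recog.FiM22.Factor
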