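import Cfsg.Agent.Lib.Recog.FiM22.Involution
import Cfsg.Agent.Lib.Recog.FiM22.Geometry

set_option autoImplicit false
set_option maxRecDepth 20000

/-!
A product of at most five transvections at pairwise orthogonal points is trivial only for the five points of a line
(owner: helper16).
-/

namespace CfsgLib.Recog.FiM22.Factor

open CfsgLib.Recog.SporBound.Fi22U6
open scoped Matrix

/-- The transvection at a vector. -/
noncomputable def PV (v : Fin 6 → F4) : Q6 := (tsu v : Q6)

theorem T_eq_PV (r : ℕ) : T r = PV (vec (code r)) := rfl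

theorem f4_pow_four : ∀ x : F4, (x ^ 2) ^ 2 = x := by decide +kernel

theorem f4_cube : ∀ x : F4, x ≠ 0 → x * x ^ 2 = 1 := by decide +kernel

theorem eq_zero_of_form {v : Fin 6 → F4} (h : ∀ x, hf x v = 0) : v = 0 := by
  by_contra hv
  obtain ⟨x, hx⟩ := exists_herm_one hv
  exact one_ne_zero (hx.symm.trans (h x))

theorem hf_zero_right (x : Fin 6 → F4) : hf x 0 = 0 := by simp [hf, Cfsg.hermForm]

/-- A functional relation is a relation between the vectors. -/
theorem rel_of_form {v w u : Fin 6 → F4} {a b c : F4} (h : ∀ x, a * hf x v + b * hf x w + c * hf x u = 0) :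
    a ^ 2 • v + b ^ 2 • w + c ^ 2 • u = 0 :=
  eq_zero_of_form fun x => by
    rw [hf_add_right, hf_add_right, hf_smul_right, hf_smul_right, hf_smul_right, f4_pow_four, f4_pow_four,
      f4_pow_four]
    exact h x

/-- Among five vectors with vanishing sum every third one lies in the span of two independent ones. -/
theorem mem_span_two {v w u y z : Fin 6 → F4} (hvw : ∀ a b : F4, a • v + b • w = 0 → a = 0 ∧ b = 0)
    (h : ∀ x, hf x v • v + hf x w • w + hf x u • u + hf x y • y + hf x z • z = 0) :
    ∃ a b : F4, u = a • v + b • w := by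
  by_contra hno
  push Not at hno
  have hind : ∀ a b c : F4, a • v + b • w + c • u = 0 → a = 0 ∧ b = 0 ∧ c = 0 := by
    intro a b c e
    by_cases hc : c = 0
    · subst hc
      rw [zero_smul, add_zero] at e
      exact ⟨(hvw a b e).1, (hvw a b e).2, rfl⟩
    · exfalso
      refine hno (-(c⁻¹ * a)) (-(c⁻¹ * b)) ?_
      have := congrArg (fun t => c⁻¹ • t) e
      simp only [smul_add, smul_smul, inv_mul_cancel₀ hc, one_smul, smul_zero] at this
      rw [eq_neg_of_add_eq_zero_right this, neg_add, neg_smul, neg_smul]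
  let φ : (Fin 6 → F4) →ₗ[F4] (Fin 3 → F4) :=
    { toFun := fun x => ![hf x v, hf x w, hf x u]
      map_add' := fun x x' => by funext i; fin_cases i <;> simp [hf_add_left]
      map_smul' := fun a x => by funext i; fin_cases i <;> simp [hf_smul_left] }
  have hsurj : LinearMap.range φ = ⊤ := by
    by_contra hne
    obtain ⟨f, hf0, hle⟩ := Submodule.exists_le_ker_of_lt_top (LinearMap.range φ) (lt_top_iff_ne_top.2 hne)
    have e : ∀ t : Fin 3 → F4, f t = t 0 * f (Pi.single 0 1) + t 1 * f (Pi.single 1 1) + t 2 * f (Pi.single 2 1) := by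
      intro t
      conv_lhs => rw [show t = t 0 • Pi.single 0 (1 : F4) + t 1 • Pi.single 1 (1 : F4) + t 2 • Pi.single 2 (1 : F4) by
        funext i; fin_cases i <;> simp]
      simp only [map_add, map_smul, smul_eq_mul]
    have hz := hind _ _ _ (rel_of_form (a := f (Pi.single 0 1)) (b := f (Pi.single 1 1)) (c := f (Pi.single 2 1))
      fun x => by
        have h0 : f (φ x) = 0 := hle ⟨x, rfl⟩
        rw [e] at h0
        simpa [φ, mul_comm] using h0)
    refine hf0 (LinearMap.ext fun t => ?_)
    rw [e, pow_eq_zero_iff (by norm_num) |>.1 hz.1, pow_eq_zero_iff (by norm_num) |>.1 hz.2.1,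
      pow_eq_zero_iff (by norm_num) |>.1 hz.2.2]
    simp
  have hex : ∀ a b c : F4, ∃ p q : F4, a • v + b • w + c • u = p • y + q • z := by
    intro a b c
    obtain ⟨x, hx⟩ := (LinearMap.range_eq_top.1 hsurj) ![a, b, c]
    have h0 : hf x v = a := by simpa [φ] using congrFun hx 0
    have h1 : hf x w = b := by simpa [φ] using congrFun hx 1
    have h2 : hf x u = c := by simpa [φ] using congrFun hx 2
    refine ⟨-hf x y, -hf x z, ?_⟩
    have := h x
    rw [h0, h1, h2, add_assoc] at this
    rw [eq_neg_of_add_eq_zero_left this, neg_add, neg_smul, neg_smul]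
  -- three independent vectors in the span of two
  obtain ⟨p₁, q₁, e₁⟩ := hex 1 0 0
  obtain ⟨p₂, q₂, e₂⟩ := hex 0 1 0
  obtain ⟨p₃, q₃, e₃⟩ := hex 0 0 1
  simp only [one_smul, zero_smul, add_zero, zero_add] at e₁ e₂ e₃
  have hdet : (p₂ * q₃ - p₃ * q₂) • v + (p₃ * q₁ - p₁ * q₃) • w + (p₁ * q₂ - p₂ * q₁) • u = 0 := by
    rw [e₁, e₂, e₃]
    module
  obtain ⟨-, -, d⟩ := hind _ _ _ hdet
  by_cases hp : p₁ = 0
  · by_cases hq : q₁ = 0
    · rw [hp, hq, zero_smul, zero_smul, add_zero] at e₁
      exact one_ne_zero (hind 1 0 0 (by rw [e₁]; simp)).1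
    · have : q₂ • v + (-q₁) • w + (0 : F4) • u = 0 := by
        rw [e₁, e₂]
        rw [hp] at d ⊢
        have hp2 : p₂ = 0 := by
          rw [zero_mul, zero_sub, neg_eq_zero] at d
          exact (mul_eq_zero.1 d).resolve_right hq
        rw [hp2]
        module
      exact hq (neg_eq_zero.1 (hind _ _ _ this).2.1)
  · have : p₂ • v + (-p₁) • w + (0 : F4) • u = 0 := by
      rw [e₁, e₂]
      have hd : p₂ * q₁ = p₁ * q₂ := (sub_eq_zero.1 d).symm
      have : (p₂ * q₁) • z + (-(p₁ * q₂)) • z = 0 := by rw [hd]; module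
      rw [← this]
      module
    exact hp (neg_eq_zero.1 (hind _ _ _ this).2.1)

/-- The product of transvections at pairwise orthogonal vectors. -/
theorem prod_apply : ∀ (vs : List (Fin 6 → F4)), (∀ v ∈ vs, hf v v = 0) → (∀ v ∈ vs, ∀ w ∈ vs, hf v w = 0) →
    ∀ x, mat ((vs.map tsu).prod) *ᵥ x = x + (vs.map fun v => hf x v • v).sum
  | [], _, _, x => by simp [mat_one]
  | v :: vs, h1, h2, x => by
    have ih := prod_apply vs (fun w hw => h1 w (List.mem_cons_of_mem _ hw))
      (fun a ha b hb => h2 a (List.mem_cons_of_mem _ ha) b (List.mem_cons_of_mem _ hb)) x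
    rw [List.map_cons, List.prod_cons, mat_mul, ← Matrix.mulVec_mulVec, ih, tsu_apply (h1 v List.mem_cons_self)]
    have hz : hf (vs.map fun w => hf x w • w).sum v = 0 := by
      clear ih
      induction vs with
      | nil => simp [hf, Cfsg.hermForm]
      | cons w vs ih' =>
        rw [List.map_cons, List.sum_cons, hf_add_left, hf_smul_left,
          h2 w (List.mem_cons_of_mem _ List.mem_cons_self) v List.mem_cons_self, mul_zero, zero_add]
        refine ih' (fun a ha => h1 a ?_) (fun a ha b hb => h2 a ?_ b ?_)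
        · rcases List.mem_cons.1 ha with rfl | ha
          exacts [List.mem_cons_self, List.mem_cons_of_mem _ (List.mem_cons_of_mem _ ha)]
        · rcases List.mem_cons.1 ha with rfl | ha
          exacts [List.mem_cons_self, List.mem_cons_of_mem _ (List.mem_cons_of_mem _ ha)]
        · rcases List.mem_cons.1 hb with rfl | hb
          exacts [List.mem_cons_self, List.mem_cons_of_mem _ (List.mem_cons_of_mem _ hb)]
    show x + (vs.map fun w => hf x w • w).sum + hf (x + (vs.map fun w => hf x w • w).sum) v • v = _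
    rw [hf_add_left, hz, add_zero, List.map_cons, List.sum_cons]
    abel

theorem add_self_vec (v : Fin 6 → F4) : v + v = 0 := funext fun i => f4_add_self (v i)

theorem PV_prod (vs : List (Fin 6 → F4)) : (vs.map PV).prod = (((vs.map tsu).prod : SU6) : Q6) := by
  induction vs with
  | nil => rfl
  | cons v vs ih => rw [List.map_cons, List.prod_cons, List.map_cons, List.prod_cons, ih]; rfl

theorem sum_of_prod (vs : List (Fin 6 → F4)) (h1 : ∀ v ∈ vs, hf v v = 0) (h2 : ∀ v ∈ vs, ∀ w ∈ vs, hf v w = 0)
    (hp : (vs.map PV).prod = 1) : ∀ x, (vs.map fun v => hf x v • v).sum = 0 := by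
  rw [PV_prod, QuotientGroup.eq_one_iff] at hp
  have hsum : ∀ x v, v ∈ vs → hf (vs.map fun w => hf x w • w).sum v = 0 := by
    intro x v hv
    have : ∀ us : List (Fin 6 → F4), (∀ a ∈ us, a ∈ vs) → hf (us.map fun w => hf x w • w).sum v = 0 := by
      intro us hus
      induction us with
      | nil => simp [hf, Cfsg.hermForm]
      | cons a us ih =>
        rw [List.map_cons, List.sum_cons, hf_add_left, hf_smul_left, h2 a (hus a List.mem_cons_self) v hv, mul_zero,
          zero_add, ih fun b hb => hus b (List.mem_cons_of_mem _ hb)]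
    exact this vs fun a ha => ha
  have hsq : (vs.map tsu).prod * (vs.map tsu).prod = 1 := by
    refine eq_of_mulVec fun x => ?_
    rw [mat_mul, ← Matrix.mulVec_mulVec, prod_apply vs h1 h2, prod_apply vs h1 h2, mat_one, Matrix.one_mulVec]
    set s := (vs.map fun v => hf x v • v).sum with hs
    have : (vs.map fun v => hf (x + s) v • v).sum = s := by
      rw [hs]
      refine congrArg List.sum (List.map_congr_left fun v hv => ?_)
      rw [hf_add_left, hsum x v hv, add_zero]
    rw [this, add_assoc, add_self_vec, add_zero]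
  intro x
  have := congrArg (fun A => mat A *ᵥ x) (center_sq hp hsq)
  simpa [prod_apply vs h1 h2, mat_one] using this

theorem hf_zero_of_commute {r s : ℕ} (hr : r < 693) (hs : s < 693) (h : Commute (T r) (T s)) :
    hf (vec (code r)) (vec (code s)) = 0 := by
  have hc := (com_iff hs hr).2 h.symm
  rw [com_def] at hc
  show Cfsg.hermForm 6 F4 2 _ _ = 0
  rw [← (dot_spec _ _).2, Nat.eq_of_beq_eq_true hc]
  rfl

theorem indep_points {r s : ℕ} (hr : r < 693) (hs : s < 693) (h : r ≠ s) (a b : F4)
    (e : a • vec (code r) + b • vec (code s) = 0) : a = 0 ∧ b = 0 := by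
  by_cases ha : a = 0
  · subst ha
    rw [zero_smul, zero_add] at e
    exact ⟨rfl, (smul_eq_zero.1 e).resolve_right (code_vec_ne hs)⟩
  · exfalso
    have h' := congrArg (fun t => a⁻¹ • t) (eq_neg_of_add_eq_zero_left e)
    simp only [smul_smul, inv_mul_cancel₀ ha, one_smul, smul_neg, ← neg_smul] at h'
    by_cases hb : b = 0
    · exact code_vec_ne hr (by rw [h', hb]; simp)
    · exact h (point_unique hr hs (by simp [ha, hb]) h')

theorem PV_line {p q u : Fin 6 → F4} {a b : F4} (hpp : hf p p = 0) (hqq : hf q q = 0) (hpq : hf p q = 0)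
    (ha : a ≠ 0) (hb : b ≠ 0) (hu : u = a • p + b • q) : ∃ c : F4, c ≠ 0 ∧ PV u = PV (p + c • q) := by
  refine ⟨a⁻¹ * b, mul_ne_zero (inv_ne_zero ha) hb, ?_⟩
  have hv : hf (p + (a⁻¹ * b) • q) (p + (a⁻¹ * b) • q) = 0 := by
    rw [hf_add_left, hf_add_right, hf_add_right, hf_smul_left, hf_smul_left, hf_smul_right, hf_smul_right,
      hf_conj p q, hpp, hqq, hpq]
    simp
  have e : u = a • (p + (a⁻¹ * b) • q) := by
    rw [hu, smul_add, smul_smul, ← mul_assoc, mul_inv_cancel₀ ha, one_mul]
  show ((tsu u : SU6) : Q6) = _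
  rw [e, tsu_smul hv ha]
  rfl

/-- Two, three or four points have no trivial product; five form a line. -/
theorem rel_points {rs : List ℕ} (hlt : ∀ r ∈ rs, r < 693) (hn : rs.Nodup)
    (hcom : ∀ r ∈ rs, ∀ s ∈ rs, Commute (T r) (T s)) (h2 : 2 ≤ rs.length) (h5 : rs.length ≤ 5)
    (hp : (rs.map T).prod = 1) :
    ∃ r s t₁ t₂ t₃, rs = [r, s, t₁, t₂, t₃] ∧ ∀ t ∈ [t₁, t₂, t₃],
      ∃ c : F4, c ≠ 0 ∧ T t = PV (vec (code r) + c • vec (code s)) := by
  match rs, hlt, hn, hcom, h2, h5, hp with
  | r :: s :: rest, hlt, hn, hcom, _, h5, hp =>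
    have hr : r < 693 := hlt r (by simp)
    have hs : s < 693 := hlt s (by simp)
    simp only [List.nodup_cons, List.mem_cons, not_or] at hn
    set p := vec (code r) with hpv
    set q := vec (code s) with hqv
    have hi := indep_points hr hs hn.1.1
    have hI : ∀ t ∈ r :: s :: rest, hf (vec (code t)) (vec (code t)) = 0 := fun t ht => dot_iso (hlt t ht)
    have hO : ∀ t ∈ r :: s :: rest, ∀ t' ∈ r :: s :: rest, hf (vec (code t)) (vec (code t')) = 0 := fun t ht t' ht' =>
      hf_zero_of_commute (hlt t ht) (hlt t' ht') (hcom t ht t' ht')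
    have hsum := sum_of_prod ((r :: s :: rest).map fun t => vec (code t))
      (by simp only [List.mem_map]; rintro _ ⟨t, ht, rfl⟩; exact hI t ht)
      (by simp only [List.mem_map]; rintro _ ⟨t, ht, rfl⟩ _ ⟨t', ht', rfl⟩; exact hO t ht t' ht')
      (by rw [List.map_map]; exact hp)
    simp only [List.map_map, Function.comp_def, List.map_cons, List.sum_cons, ← hpv, ← hqv] at hsum
    have hpq : hf p q = 0 := hO r (by simp) s (by simp)
    have hspan : ∀ t, t ∈ rest → (∃ y z, ∀ x, hf x p • p + hf x q • q + hf x (vec (code t)) • vec (code t) +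
        hf x y • y + hf x z • z = 0) → ∃ a b : F4, a ≠ 0 ∧ b ≠ 0 ∧ vec (code t) = a • p + b • q := by
      rintro t ht ⟨y, z, h⟩
      obtain ⟨a, b, e⟩ := mem_span_two hi h
      have htl : t < 693 := hlt t (by simp [ht])
      refine ⟨a, b, ?_, ?_, e⟩
      · rintro rfl
        rw [zero_smul, zero_add] at e
        by_cases hb : b = 0
        · exact code_vec_ne htl (by rw [e, hb, zero_smul])
        · exact hn.2.1 (point_unique htl hs hb e ▸ ht)
      · rintro rfl
        rw [zero_smul, add_zero] at e
        by_cases ha : a = 0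
        · exact code_vec_ne htl (by rw [e, ha, zero_smul])
        · exact hn.1.2 (point_unique htl hr ha e ▸ ht)
    have hcoef : ∀ A B : F4 × F4, (∀ x, (hf x p * A.1 + hf x q * A.2) • p +
        (hf x p * B.1 + hf x q * B.2) • q = 0) → A.1 = 0 ∧ A.2 = 0 := by
      intro A B h
      have hr0 := rel_of_form (v := p) (w := q) (u := 0) (a := A.1) (b := A.2) (c := 0) fun x => by
        rw [mul_comm A.1, mul_comm A.2, zero_mul, add_zero]
        exact (hi _ _ (h x)).1
      rw [smul_zero, add_zero] at hr0
      exact ⟨pow_eq_zero_iff (by norm_num) |>.1 (hi _ _ hr0).1, pow_eq_zero_iff (by norm_num) |>.1 (hi _ _ hr0).2⟩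
    match rest, hlt, hn, h5, hsum, hspan with
    | [], _, _, _, hsum, _ =>
      exfalso
      refine one_ne_zero (α := F4) (hcoef (1, 0) (0, 1) fun x => ?_).1
      have := hsum x
      simp only [List.map_nil, List.sum_nil, add_zero] at this
      simpa using this
    | [t], _, _, _, hsum, hspan =>
      exfalso
      obtain ⟨a, b, ha, hb, e⟩ := hspan t (by simp) ⟨0, 0, fun x => by
        have := hsum x
        simp only [List.map_cons, List.map_nil, List.sum_cons, List.sum_nil, add_zero] at this
        simpa [add_assoc] using this⟩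
      have h' := (hcoef (1 + a ^ 2 * a, b ^ 2 * a) (a ^ 2 * b, 1 + b ^ 2 * b) fun x => by
        have := hsum x
        simp only [List.map_cons, List.map_nil, List.sum_cons, List.sum_nil, add_zero, e] at this
        rw [hf_add_right, hf_smul_right, hf_smul_right] at this
        rw [← this]; module).2
      exact mul_ne_zero (pow_ne_zero 2 hb) ha h'
    | [t, t'], _, _, _, hsum, hspan =>
      exfalso
      obtain ⟨a, b, ha, hb, e⟩ := hspan t (by simp) ⟨vec (code t'), 0, fun x => by
        have := hsum x
        simp only [List.map_cons, List.map_nil, List.sum_cons, List.sum_nil, add_zero] at this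
        simpa [add_assoc] using this⟩
      obtain ⟨a', b', ha', hb', e'⟩ := hspan t' (by simp) ⟨vec (code t), 0, fun x => by
        have := hsum x
        simp only [List.map_cons, List.map_nil, List.sum_cons, List.sum_nil, add_zero] at this
        rw [hf_zero_right, zero_smul, add_zero]
        exact Eq.trans (by abel) this⟩
      have h' := (hcoef (1 + a ^ 2 * a + a' ^ 2 * a', b ^ 2 * a + b' ^ 2 * a')
          (a ^ 2 * b + a' ^ 2 * b', 1 + b ^ 2 * b + b' ^ 2 * b') fun x => by
        have := hsum x
        simp only [List.map_cons, List.map_nil, List.sum_cons, List.sum_nil, add_zero, e, e'] at this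
        simp only [hf_add_right, hf_smul_right] at this
        rw [← this]; module).1
      have hodd : ∀ x y : F4, x ≠ 0 → y ≠ 0 → 1 + x ^ 2 * x + y ^ 2 * y ≠ 0 := by decide +kernel
      exact hodd a a' ha ha' h'
    | [t₁, t₂, t₃], hlt, _, _, hsum, hspan =>
      refine ⟨r, s, t₁, t₂, t₃, rfl, fun t ht => ?_⟩
      have hsumx := fun x => (by
        have := hsum x
        simp only [List.map_cons, List.map_nil, List.sum_cons, List.sum_nil, add_zero] at this
        exact this : hf x p • p + (hf x q • q + (hf x (vec (code t₁)) • vec (code t₁) +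
          (hf x (vec (code t₂)) • vec (code t₂) + hf x (vec (code t₃)) • vec (code t₃)))) = 0)
      have hyz : ∃ y z, ∀ x, hf x p • p + hf x q • q + hf x (vec (code t)) • vec (code t) +
          hf x y • y + hf x z • z = 0 := by
        rcases (by simpa using ht : t = t₁ ∨ t = t₂ ∨ t = t₃) with h | h | h <;> rw [h]
        · exact ⟨vec (code t₂), vec (code t₃), fun x => Eq.trans (by abel) (hsumx x)⟩
        · exact ⟨vec (code t₁), vec (code t₃), fun x => Eq.trans (by abel) (hsumx x)⟩
        · exact ⟨vec (code t₁), vec (code t₂), fun x => Eq.trans (by abel) (hsumx x)⟩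
      obtain ⟨a, b, ha, hb, e⟩ := hspan t ht hyz
      exact PV_line (hI r (by simp)) (hI s (by simp)) hpq ha hb e
    | _ :: _ :: _ :: _ :: _, _, _, h5, _, _ => simp only [List.length_cons] at h5; omega

/-- The five points of a line have trivial product. -/
theorem line_prod {p q : Fin 6 → F4} (hpp : hf p p = 0) (hqq : hf q q = 0) (hpq : hf p q = 0) :
    ([p, q, p + (1 : F4) • q, p + F4.ofNat4 2 • q, p + F4.ofNat4 3 • q].map PV).prod = 1 := by
  have key : ∀ A B x y : F4, A * x + (B * y + ((A + 1 ^ 2 * B) * (x + 1 * y) +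
      ((A + F4.ofNat4 2 ^ 2 * B) * (x + F4.ofNat4 2 * y) +
        (A + F4.ofNat4 3 ^ 2 * B) * (x + F4.ofNat4 3 * y)))) = 0 := by decide +kernel
  have hiso : ∀ c d : F4, hf (p + c • q) (p + d • q) = 0 := fun c d => by
    rw [hf_add_left, hf_add_right, hf_add_right, hf_smul_left, hf_smul_left, hf_smul_right, hf_smul_right,
      hf_conj p q, hpp, hqq, hpq]
    simp
  have hl : ∀ c : F4, hf p (p + c • q) = 0 ∧ hf q (p + c • q) = 0 ∧ hf (p + c • q) p = 0 ∧ hf (p + c • q) q = 0 :=
    fun c => by
      refine ⟨?_, ?_, ?_, ?_⟩ <;>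
        simp only [hf_add_left, hf_add_right, hf_smul_left, hf_smul_right, hf_conj p q, hpp, hqq, hpq, mul_zero,
          add_zero, zero_pow (two_ne_zero)]
  have hqp : hf q p = 0 := by rw [hf_conj p q, hpq]; simp
  rw [PV_prod]
  suffices h : (([p, q, p + (1 : F4) • q, p + F4.ofNat4 2 • q, p + F4.ofNat4 3 • q].map tsu).prod : SU6) = 1 by
    rw [h]; rfl
  refine eq_of_mulVec fun x => ?_
  rw [prod_apply, mat_one, Matrix.one_mulVec]
  · simp only [List.map_cons, List.map_nil, List.sum_cons, List.sum_nil, add_zero, hf_add_right, hf_smul_right]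
    rw [add_eq_left]
    funext i
    simp only [Pi.add_apply, Pi.smul_apply, smul_eq_mul, Pi.zero_apply]
    exact key _ _ _ _
  · simp only [List.mem_cons, List.not_mem_nil, or_false]
    rintro v (rfl | rfl | rfl | rfl | rfl) <;> first | assumption | with_reducible exact hiso _ _
  · simp only [List.mem_cons, List.not_mem_nil, or_false]
    rintro v (rfl | rfl | rfl | rfl | rfl) w (rfl | rfl | rfl | rfl | rfl) <;>
      first
        | assumption | with_reducible exact hiso _ _ | with_reducible exact (hl _).1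
        | with_reducible exact (hl _).2.1 | with_reducible exact (hl _).2.2.1 | with_reducible exact (hl _).2.2.2

end CfsgLib.Recog.FiM22.Factor
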