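import Mathlib
import Cfsg.Prelude.Def_FischerSpaces

set_option autoImplicit false

/-!
A projective reflection group in dimension 6 over the field with three elements has no element of order 11
(owner: helper16).
-/

namespace CfsgLib.Recog.FiM22.Factor

open Cfsg
open scoped Matrix

instance : Invertible (2 : ZMod 3) := invertibleOfNonzero (by decide)

instance : Fact (Nat.Prime 11) := ⟨by norm_num⟩

/-- The number of solutions of `w₁ x₁² + ⋯ = t`. -/
def sols : List (ZMod 3) → ZMod 3 → ℕ
  | [], t => if t = 0 then 1 else 0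
  | a :: w, t => sols w t + sols w (t - a) + sols w (t - a)

theorem card_sols : ∀ (n : ℕ) (w : Fin n → ZMod 3) (t : ZMod 3),
    Fintype.card {x : Fin n → ZMod 3 // ∑ i, w i * (x i * x i) = t} = sols (List.ofFn w) t
  | 0, w, t => by
    simp only [List.ofFn_zero, sols]
    rw [Fintype.card_subtype]
    by_cases h : t = 0
    · subst h; simp
    · simp [h, Ne.symm h]
  | n + 1, w, t => by
    have e : {x : Fin (n + 1) → ZMod 3 // ∑ i, w i * (x i * x i) = t} ≃
        Σ a : ZMod 3, {x : Fin n → ZMod 3 // ∑ i, w i.succ * (x i * x i) = t - w 0 * (a * a)} :=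
      ((Fin.consEquiv fun _ => ZMod 3).symm.subtypeEquiv (q := fun p =>
          ∑ i, w i.succ * (p.2 i * p.2 i) = t - w 0 * (p.1 * p.1)) fun x => by
        rw [Fin.sum_univ_succ, eq_sub_iff_add_eq']
        rfl).trans
        { toFun := fun p => ⟨p.1.1, p.1.2, p.2⟩
          invFun := fun p => ⟨(p.1, p.2.1), p.2.2⟩
          left_inv := fun _ => rfl
          right_inv := fun _ => rfl }
    rw [Fintype.card_congr e, Fintype.card_sigma, List.ofFn_succ, sols]
    simp only [card_sols n]
    have hu : (Finset.univ : Finset (ZMod 3)) = {0, 1, 2} := by decide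
    rw [hu, Finset.sum_insert (by decide), Finset.sum_insert (by decide), Finset.sum_singleton, mul_zero, mul_zero,
      sub_zero, show ((1 : ZMod 3) * 1) = 1 from rfl, show ((2 : ZMod 3) * 2) = 1 from rfl, mul_one, add_assoc]

theorem sols_six : ∀ b : Fin 6 → Bool,
    sols (List.ofFn fun i => if b i then (1 : ZMod 3) else 2) 0 = 225 ∨
      sols (List.ofFn fun i => if b i then (1 : ZMod 3) else 2) 0 = 261 := by
  decide +kernel

theorem card_zero {Q : QuadraticForm (ZMod 3) (Fin 6 → ZMod 3)} (hQ : (QuadraticMap.polarBilin Q).Nondegenerate) :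
    Fintype.card {x : Fin 6 → ZMod 3 // Q x = 0} = 225 ∨
      Fintype.card {x : Fin 6 → ZMod 3 // Q x = 0} = 261 := by
  have hsep : (QuadraticMap.associated (R := ZMod 3) Q).SeparatingLeft := by
    intro x hx
    refine hQ.1 x fun y => ?_
    have h := hx y
    rw [← QuadraticMap.two_nsmul_associated (S := ZMod 3)]
    simp only [LinearMap.smul_apply]
    rw [show QuadraticMap.associatedHom (ZMod 3) Q x y = 0 from h, smul_zero]
  obtain ⟨w, hw⟩ := Q.equivalent_weightedSumSquares_units_of_nondegenerate' hsep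
  have hf : Module.finrank (ZMod 3) (Fin 6 → ZMod 3) = 6 := by simp
  obtain ⟨v, ⟨e⟩⟩ : ∃ v : Fin 6 → (ZMod 3)ˣ,
      QuadraticMap.Equivalent Q (QuadraticMap.weightedSumSquares (ZMod 3) v) := by
    revert w; rw [hf]; exact fun w hw => ⟨w, hw⟩
  have hc : Fintype.card {x : Fin 6 → ZMod 3 // Q x = 0} = sols (List.ofFn fun i => (v i : ZMod 3)) 0 := by
    rw [← card_sols]
    refine Fintype.card_congr (e.toLinearEquiv.toEquiv.subtypeEquiv fun x => ?_)
    rw [← e.map_app x, QuadraticMap.weightedSumSquares_apply]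
    simp [Units.smul_def]
  have hv : ∀ i, (v i : ZMod 3) = if decide ((v i : ZMod 3) = 1) then (1 : ZMod 3) else 2 := by
    intro i
    have : ∀ z : ZMod 3, z ≠ 0 → z = if decide (z = 1) then (1 : ZMod 3) else 2 := by decide
    exact this _ (v i).ne_zero
  rw [hc, funext hv]
  exact sols_six fun i => decide ((v i : ZMod 3) = 1)

/-- No isometry of a nondegenerate form in dimension six over the field with three elements has order eleven. -/
theorem no_eleven {Q : QuadraticForm (ZMod 3) (Fin 6 → ZMod 3)} (hQ : (QuadraticMap.polarBilin Q).Nondegenerate)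
    (g : ↥(isometryGroup (ZMod 3) (⇑Q))) : orderOf g ≠ 11 := by
  intro hg
  set M : Matrix (Fin 6) (Fin 6) (ZMod 3) := Units.val (g : GL (Fin 6) (ZMod 3)) with hM
  have hpres : ∀ x, Q (M *ᵥ x) = Q x := fun x => g.2 x x
  have hM11 : M ^ 11 = 1 := by
    rw [hM, ← Units.val_pow_eq_pow_val, ← SubgroupClass.coe_pow, ← hg, pow_orderOf_eq_one]; rfl
  have hMne : M ≠ 1 := fun h => by
    have : g = 1 := Subtype.ext (Units.ext h)
    rw [this, orderOf_one] at hg; omega
  have hpow : ∀ (k : ℕ) (x : Fin 6 → ZMod 3), (fun y => M *ᵥ y)^[k] x = (M ^ k) *ᵥ x := by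
    intro k
    induction k with
    | zero => simp
    | succ k ih => intro x; rw [Function.iterate_succ_apply', ih, Matrix.mulVec_mulVec, pow_succ']
  classical
  let F : Function.End (Fin 6 → ZMod 3) := fun y => M *ᵥ y
  let Z : Function.End {x : Fin 6 → ZMod 3 // Q x = 0} := fun x => ⟨M *ᵥ x.1, (hpres x.1).trans x.2⟩
  have endPow : ∀ {α : Type} (f : Function.End α) (k : ℕ) (x : α), (f ^ k) x = (f : α → α)^[k] x := by
    intro α f k
    induction k with
    | zero => intro x; rfl
    | succ k ih =>
      intro x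
      rw [pow_succ']
      exact (congrArg f (ih x)).trans (Function.iterate_succ_apply' _ k x).symm
  have hF : F ^ 11 ^ 1 = 1 := funext fun x => by
    rw [pow_one, endPow, hpow, hM11, Matrix.one_mulVec]; rfl
  have hZ : Z ^ 11 ^ 1 = 1 := funext fun x => by
    refine Subtype.ext ?_
    have hval : ∀ k, (((Z : {x : Fin 6 → ZMod 3 // Q x = 0} → _)^[k] x).1) = (fun y => M *ᵥ y)^[k] x.1 := by
      intro k
      induction k with
      | zero => rfl
      | succ k ih => rw [Function.iterate_succ_apply', Function.iterate_succ_apply', ← ih]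
    rw [pow_one, endPow, hval, hpow, hM11, Matrix.one_mulVec]; rfl
  have c1 := Equiv.Perm.card_fixedPoints_modEq hF
  have c2 := Equiv.Perm.card_fixedPoints_modEq hZ
  let W : Submodule (ZMod 3) (Fin 6 → ZMod 3) := LinearMap.ker (Matrix.toLin' M - LinearMap.id)
  have hW : ∀ x, x ∈ W ↔ M *ᵥ x = x := fun x => by simp [W, sub_eq_zero]
  have hWc : Fintype.card (Function.fixedPoints (F : _ → _)) = Fintype.card W :=
    Fintype.card_congr (Equiv.subtypeEquivRight fun x => (hW x).symm)
  have hrank : Fintype.card W = 3 ^ Module.finrank (ZMod 3) W := by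
    rw [Module.card_eq_pow_finrank (K := ZMod 3), ZMod.card]
  have hle : Module.finrank (ZMod 3) W ≤ 6 := by
    have := Submodule.finrank_le W
    simpa using this
  have hlt : Module.finrank (ZMod 3) W ≠ 6 := by
    intro h6
    have htop : W = ⊤ := Submodule.eq_top_of_finrank_eq (by simp [h6])
    refine hMne (Matrix.toLin'.injective ?_)
    refine LinearMap.ext fun x => ?_
    rw [Matrix.toLin'_one, LinearMap.id_apply, Matrix.toLin'_apply]
    exact (hW x).1 (htop ▸ Submodule.mem_top)
  have hcardV : Fintype.card (Fin 6 → ZMod 3) = 729 := by simp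
  have hinj : Fintype.card (Function.fixedPoints (Z : _ → _)) ≤ Fintype.card W :=
    Fintype.card_le_of_injective (fun x => ⟨x.1.1, (hW _).2 (congrArg Subtype.val x.2)⟩) fun x y h => by
      simp only [Subtype.mk.injEq] at h
      exact Subtype.ext (Subtype.ext h)
  rw [hcardV, hWc, hrank, Nat.ModEq] at c1
  rw [hrank] at hinj
  generalize hk : Module.finrank (ZMod 3) W = k at *
  have hk1 : k = 1 := by
    interval_cases k <;> first | rfl | omega
  subst hk1
  rw [Nat.ModEq] at c2
  rcases card_zero hQ with h | h <;> omega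

/-- A projective reflection group in dimension six has order prime to eleven. -/
theorem not_dvd_of_projRefl {X : Type*} [Group X] {μ c : ZMod 3} (h : IsProjReflectionGroupModThree X 6 μ c) :
    ¬ 11 ∣ Nat.card X := by
  obtain ⟨Q, hQ, -, ⟨e⟩⟩ := h
  intro h11
  rw [Nat.card_congr e.toEquiv] at h11
  have h' : 11 ∣ Nat.card ↥(reflectionSubgroup (⇑Q) c) := h11.trans (Subgroup.card_quotient_dvd_card _)
  obtain ⟨g, hg⟩ := exists_prime_orderOf_dvd_card' 11 h'
  exact no_eleven hQ g.1 (by rw [Subgroup.orderOf_coe]; exact hg)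

end CfsgLib.Recog.FiM22.Factor
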