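import Cfsg.Agent.Lib.Recog.FiM22.Rows
import Mathlib.FieldTheory.Finite.GaloisField

set_option autoImplicit false
set_option maxRecDepth 20000

/-!
PSU(6, 2) over any field with four elements (owner: helper16; argument of helper6's multiplier file, repeated to keep
the import closure small).
-/

namespace CfsgLib.Recog.FiM22.Factor

open CfsgLib.Recog.SporBound CfsgLib.Recog.SporBound.Fi22U6

/-- The special unitary group along an isomorphism of fields. -/
theorem exists_psu_equiv {F : Type*} [Field F] [Fintype F] (hF : Fintype.card F = 4) :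
    Nonempty (Q6 ≃* Cfsg.PSU 6 F 2) := by
  have hF4 : Fintype.card F4 = 4 := by decide
  let r : F4 ≃+* F := FiniteField.ringEquivOfCardEq (hF4.trans hF.symm)
  have hform : ∀ u v : Fin 6 → F4,
      Cfsg.hermForm 6 F 2 (fun i => r (u i)) (fun i => r (v i)) = r (Cfsg.hermForm 6 F4 2 u v) := by
    intro u v
    simp [Cfsg.hermForm, map_sum]
  have hmul : ∀ (M : Matrix (Fin 6) (Fin 6) F4) (u : Fin 6 → F4),
      Matrix.mulVec (r.toRingHom.mapMatrix M) (fun i => r (u i)) = fun i => r (Matrix.mulVec M u i) := by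
    intro M u
    funext i
    exact (RingHom.map_mulVec r.toRingHom M u i).symm
  let m : Matrix.SpecialLinearGroup (Fin 6) F4 →* Matrix.SpecialLinearGroup (Fin 6) F :=
    Matrix.SpecialLinearGroup.map r.toRingHom
  have hm : Function.Bijective m := by
    refine ⟨fun A B h => Subtype.ext ?_, fun A => ⟨Matrix.SpecialLinearGroup.map r.symm.toRingHom A, Subtype.ext ?_⟩⟩
    · ext i j
      exact r.injective (congrFun (congrFun (congrArg Subtype.val h) i) j)
    · ext i j
      exact r.apply_symm_apply _
  let M : Matrix.SpecialLinearGroup (Fin 6) F4 ≃* Matrix.SpecialLinearGroup (Fin 6) F := MulEquiv.ofBijective m hm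
  have hmem : (Cfsg.SU 6 F4 2).map M.toMonoidHom = Cfsg.SU 6 F 2 := by
    ext B
    constructor
    · rintro ⟨A, hA, rfl⟩ u v
      obtain ⟨u, rfl⟩ : ∃ u' : Fin 6 → F4, (fun i => r (u' i)) = u := ⟨fun i => r.symm (u i), funext fun i => r.apply_symm_apply _⟩
      obtain ⟨v, rfl⟩ : ∃ v' : Fin 6 → F4, (fun i => r (v' i)) = v := ⟨fun i => r.symm (v i), funext fun i => r.apply_symm_apply _⟩
      show Cfsg.hermForm 6 F 2 (Matrix.mulVec (r.toRingHom.mapMatrix A.1) _) (Matrix.mulVec (r.toRingHom.mapMatrix A.1) _) = _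
      rw [hmul, hmul, hform, hform]
      exact congrArg r (hA u v)
    · intro hB
      obtain ⟨A, rfl⟩ := M.surjective B
      refine ⟨A, fun u v => ?_, rfl⟩
      have := hB (fun i => r (u i)) (fun i => r (v i))
      change Cfsg.hermForm 6 F 2 (Matrix.mulVec (r.toRingHom.mapMatrix A.1) _)
        (Matrix.mulVec (r.toRingHom.mapMatrix A.1) _) = _ at this
      rw [hmul, hmul, hform, hform] at this
      exact r.injective this
  let e : Cfsg.SU 6 F4 2 ≃* Cfsg.SU 6 F 2 :=
    (MulEquiv.subgroupMap M _).trans (MulEquiv.subgroupCongr hmem)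
  refine ⟨QuotientGroup.congr _ _ e ?_⟩
  ext x
  constructor
  · rintro ⟨y, hy, rfl⟩
    rw [Subgroup.mem_center_iff]
    intro z
    obtain ⟨w, rfl⟩ := e.surjective z
    show e w * e y = e y * e w
    rw [← map_mul, ← map_mul, Subgroup.mem_center_iff.1 hy w]
  · intro hx
    refine ⟨e.symm x, Subgroup.mem_center_iff.2 fun z => ?_, e.apply_symm_apply x⟩
    exact e.injective (by rw [map_mul, map_mul, e.apply_symm_apply]; exact Subgroup.mem_center_iff.1 hx (e z))

end CfsgLib.Recog.FiM22.Factor
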