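import Cfsg.Agent.Lib.Recog.FiM22.Identify
import Cfsg.Agent.Lib.Recog.FiM22.Factor.Lists
import Cfsg.Agent.S5463

set_option autoImplicit false
set_option maxRecDepth 20000

/-!
Triples of pairwise commuting members in type M(22): one orbit, their number, and the centralizer of a product of
such a triple (owner: helper16).
-/

namespace CfsgLib.Recog.FiM22.Factor

open Cfsg CfsgLib.ThreeTrans
open CfsgLib.ThreeTrans.CosetIndex (forallFrom forallFrom_elim)

/-- The point orthogonal to the first used as the standard one. -/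
noncomputable def third0 : ℕ := ((List.range 693).filter fun s => adj 0 s).headD 0

/-- A point orthogonal to the first reaches the standard one in two steps. -/
noncomputable def stepOK (s : ℕ) : Bool :=
  !(adj 0 s) || Nat.beq s third0 || !(com s third0) ||
    (List.range 693).any fun w => adj 0 w && !(com s w) && !(com third0 w)

theorem step_ok : forallFrom stepOK 0 693 = true := by decide +kernel

theorem third0_spec : third0 < 693 ∧ adj 0 third0 = true := by decide +kernel

theorem card_perp : ((List.range 693).filter fun s => adj 0 s).length = 180 := by decide +kernel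

universe u

variable {G : Type u} [Group G] [Finite G] {D : Set G} {a : G}

/-- Conjugation inside the stabiliser of two members moves a common neighbour to the standard one. -/
theorem exists_move (B : Base D a) {lab : ℕ → G} (L : Labelled D a lab) {s : ℕ} (hs : s < 693)
    (h : adj 0 s = true) : ∃ g : G, g * a * g⁻¹ = a ∧ g * lab 0 * g⁻¹ = lab 0 ∧ g * lab s * g⁻¹ = lab third0 := by
  obtain ⟨ht, hta⟩ := third0_spec
  have key : ∀ x y, x < 693 → y < 693 → adj 0 x = true → adj 0 y = true → com x y = false →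
      ∃ g : G, g * a * g⁻¹ = a ∧ g * lab 0 * g⁻¹ = lab 0 ∧ g * lab x * g⁻¹ = lab y := by
    intro x y hx hy ax ay hxy
    have hm := mul_lt hx hy
    have hS := B.set3
    have hnc : ¬ Commute (lab x) (lab y) := fun hc => by
      rw [L.commute_iff hx hy, hxy] at hc; exact Bool.false_ne_true hc
    have hX := L.mem x hx
    have hY := L.mem y hy
    have hfix : ∀ z, Commute z (lab x) → Commute z (lab y) → (lab (mul x y)) * z * (lab (mul x y))⁻¹ = z := by
      intro z h1 h2
      have hc : Commute z (lab (mul x y)) := by rw [L.map x hx y hy]; exact (h1.mul_right h2).mul_right h1.inv_right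
      rw [← hc.eq, mul_inv_cancel_right]
    refine ⟨lab (mul x y), hfix a hX.2.2 hY.2.2, hfix _ ((L.commute_iff (by norm_num) hx).2 (adj_iff.1 ax).2)
      ((L.commute_iff (by norm_num) hy).2 (adj_iff.1 ay).2), ?_⟩
    rw [L.map x hx y hy, inv_eq hS hX.1, mul_inv_rev, mul_inv_rev, inv_eq hS hX.1, inv_eq hS hY.1]
    have hb := braid hS hX.1 hY.1 hnc
    calc lab x * lab y * lab x * lab x * (lab x * (lab y * lab x))
        = lab x * lab y * lab x * (lab y * lab x) := by simp only [mul_assoc, mul_self_assoc hS hX.1]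
      _ = lab y * lab x * lab y * (lab y * lab x) := by rw [hb]
      _ = lab y := by simp only [mul_assoc, mul_self_assoc hS hY.1, mul_self hS hX.1, mul_one]
  have hk := forallFrom_elim step_ok (Nat.zero_le s) (by omega)
  simp only [stepOK, h, Bool.not_true, Bool.false_or, Bool.or_eq_true, Nat.beq_eq, Bool.not_eq_true',
    List.any_eq_true, List.mem_range, Bool.and_eq_true] at hk
  rcases hk with (hk | hk) | ⟨w, hw, ⟨aw, sw⟩, tw⟩
  · exact ⟨1, by group, by group, by rw [hk]; group⟩
  · exact key s third0 hs ht h hta hk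
  · obtain ⟨g, g1, g2, g3⟩ := key s w hs hw h aw sw
    obtain ⟨k, k1, k2, k3⟩ := key w third0 hw ht aw hta (by rw [com_comm hw ht]; exact tw)
    refine ⟨k * g, ?_, ?_, ?_⟩
    · rw [show k * g * a * (k * g)⁻¹ = k * (g * a * g⁻¹) * k⁻¹ by group, g1, k1]
    · rw [show k * g * lab 0 * (k * g)⁻¹ = k * (g * lab 0 * g⁻¹) * k⁻¹ by group, g2, k2]
    · rw [show k * g * lab s * (k * g)⁻¹ = k * (g * lab s * g⁻¹) * k⁻¹ by group, g3, k3]

/-- The lists of three distinct pairwise commuting members. -/
def triples (D : Set G) : Set (List G) := {l | ComList D l ∧ l.length = 3}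

/-- Triples of commuting members form one orbit. -/
theorem triples_transitive (B : Base D a) {lab : ℕ → G} (L : Labelled D a lab) {x y z : G}
    (h : ComList D [x, y, z]) :
    ∃ g : G, [x, y, z].map (MulAut.conj g) = [a, lab 0, lab third0] := by
  have hn := h.nodup
  simp only [List.nodup_cons, List.mem_cons, List.not_mem_nil, or_false, not_or] at hn
  obtain ⟨g₁, hg₁⟩ := B.prim.1 x (h.mem x (by simp)) a B.mem
  have hc := h.conj B.grp.2.1 g₁
  simp only [List.map_cons, List.map_nil] at hc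
  change ComList D [g₁ * x * g₁⁻¹, g₁ * y * g₁⁻¹, g₁ * z * g₁⁻¹] at hc
  rw [hg₁] at hc
  have hn1 := hc.nodup
  simp only [List.nodup_cons, List.mem_cons, List.not_mem_nil, or_false, not_or] at hn1
  have hl0 := L.mem 0 (by norm_num)
  obtain ⟨g₂, hg₂, hg₂y⟩ := B.setting.commute_transitive B.mem (hc.mem _ (by simp : g₁ * y * g₁⁻¹ ∈ _))
    (Ne.symm hn1.1.1) (hc.comm a (by simp) _ (by simp)) hl0.1 hl0.2.1 hl0.2.2
  have hg₂a : g₂ * a * g₂⁻¹ = a := by rw [hg₂.eq, mul_inv_cancel_right]
  have hc2 := hc.conj B.grp.2.1 g₂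
  simp only [List.map_cons, List.map_nil] at hc2
  change ComList D [g₂ * a * g₂⁻¹, g₂ * (g₁ * y * g₁⁻¹) * g₂⁻¹, g₂ * (g₁ * z * g₁⁻¹) * g₂⁻¹] at hc2
  rw [hg₂a, hg₂y] at hc2
  have hn2 := hc2.nodup
  simp only [List.nodup_cons, List.mem_cons, List.not_mem_nil, or_false, not_or] at hn2
  obtain ⟨s, hs, es⟩ := L.surj (g₂ * (g₁ * z * g₁⁻¹) * g₂⁻¹)
    ⟨hc2.mem _ (by simp), Ne.symm hn2.1.2, hc2.comm a (by simp) _ (by simp)⟩
  have hadj : adj 0 s = true := adj_iff.2 ⟨fun e => hn2.2.1 (by rw [← es, e]),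
    (L.commute_iff (by norm_num) hs).1 (es ▸ hc2.comm _ (by simp) _ (by simp))⟩
  obtain ⟨g₃, h31, h32, h33⟩ := exists_move B L hs hadj
  refine ⟨g₃ * g₂ * g₁, ?_⟩
  simp only [List.map_cons, List.map_nil, List.cons.injEq, and_true]
  show g₃ * g₂ * g₁ * x * (g₃ * g₂ * g₁)⁻¹ = a ∧ g₃ * g₂ * g₁ * y * (g₃ * g₂ * g₁)⁻¹ = lab 0 ∧
    g₃ * g₂ * g₁ * z * (g₃ * g₂ * g₁)⁻¹ = lab third0
  have e : ∀ v, g₃ * g₂ * g₁ * v * (g₃ * g₂ * g₁)⁻¹ = g₃ * (g₂ * (g₁ * v * g₁⁻¹) * g₂⁻¹) * g₃⁻¹ :=
    fun v => by group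
  refine ⟨?_, ?_, ?_⟩
  · rw [e, hg₁, hg₂a, h31]
  · rw [e, hg₂y, h32]
  · rw [e, ← es, h33]

/-- The number of commuting triples, for the given number of members. -/
theorem card_triples (B : Base D a) {lab : ℕ → G} (L : Labelled D a lab) :
    (triples D).ncard = D.ncard * (693 * 180) := by
  classical
  have : Fintype G := Fintype.ofFinite G
  let N : G → Finset G := fun x => (Set.toFinite (nbrs D x)).toFinset
  let C : G → G → Finset G := fun x y => (Set.toFinite (nbrs D x ∩ nbrs D y)).toFinset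
  have hN : ∀ x ∈ D, (N x).card = 693 := by
    intro x hx
    obtain ⟨g, hg⟩ := B.prim.1 a B.mem x hx
    have hlab : (Finset.range 693).card = (N x).card := by
      refine Finset.card_bij (fun r _ => g * lab r * g⁻¹) ?_ ?_ ?_
      · intro r hr
        have hm := L.mem r (Finset.mem_range.1 hr)
        simp only [N, Set.Finite.mem_toFinset, Set.mem_setOf_eq]
        refine ⟨B.grp.2.1 g _ hm.1, fun e => hm.2.1 (mul_left_cancel (mul_right_cancel (e.trans hg.symm))), ?_⟩
        rw [← hg, commute_conj_iff]; exact hm.2.2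
      · intro r hr s hs e
        exact L.inj r (Finset.mem_range.1 hr) s (Finset.mem_range.1 hs) (mul_left_cancel (mul_right_cancel e))
      · intro y hy
        simp only [N, Set.Finite.mem_toFinset, Set.mem_setOf_eq] at hy
        obtain ⟨r, hr, e⟩ := L.surj (g⁻¹ * y * g) ⟨by simpa using B.grp.2.1 g⁻¹ y hy.1, fun e => hy.2.1 (by
          rw [← hg, ← e]; group), by rw [← commute_conj_iff (g := g), conj_cancel, hg]; exact hy.2.2⟩
        exact ⟨r, Finset.mem_range.2 hr, by rw [e, conj_cancel]⟩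
    rw [← hlab, Finset.card_range]
  have hC : ∀ x ∈ D, ∀ y ∈ N x, (C x y).card = 180 := by
    intro x hx y hy
    simp only [N, Set.Finite.mem_toFinset, Set.mem_setOf_eq] at hy
    obtain ⟨g, hg⟩ := B.prim.1 x hx a B.mem
    have hl0 := L.mem 0 (by norm_num)
    obtain ⟨k, hk, hky⟩ := B.setting.commute_transitive B.mem (B.grp.2.1 g y hy.1)
      (fun e => hy.2.1 (mul_left_cancel (mul_right_cancel (e.trans hg.symm))))
      (by rw [← hg, commute_conj_iff]; exact hy.2.2) hl0.1 hl0.2.1 hl0.2.2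
    have hxa : (k * g) * x * (k * g)⁻¹ = a := by
      rw [show k * g * x * (k * g)⁻¹ = k * (g * x * g⁻¹) * k⁻¹ by group, hg, hk.eq, mul_inv_cancel_right]
    have hy0 : (k * g) * y * (k * g)⁻¹ = lab 0 := by rw [← hky]; group
    have h180 : (C x y).card = ((List.range 693).filter fun s => adj 0 s).toFinset.card := by
      symm
      refine Finset.card_bij (fun s _ => (k * g)⁻¹ * lab s * (k * g)) ?_ ?_ ?_
      · intro s hs
        obtain ⟨hs, hadj⟩ := List.mem_filter.1 (List.mem_toFinset.1 hs)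
        have hs' := List.mem_range.1 hs
        have hm := L.mem s hs'
        obtain ⟨hne, hcm⟩ := adj_iff.1 hadj
        have hD : (k * g)⁻¹ * lab s * (k * g) ∈ D := by simpa using B.grp.2.1 (k * g)⁻¹ _ hm.1
        simp only [C, Set.Finite.mem_toFinset, Set.mem_inter_iff, Set.mem_setOf_eq]
        refine ⟨⟨hD, fun e => hm.2.1 ?_, ?_⟩, hD, fun e => hne (L.inj 0 (by norm_num) s hs' ?_), ?_⟩
        · rw [← hxa, ← e]; group
        · rw [← commute_conj_iff (g := k * g), conj_cancel, hxa]; exact hm.2.2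
        · rw [← hy0, ← e]; group
        · rw [← commute_conj_iff (g := k * g), conj_cancel, hy0]
          exact (L.commute_iff (by norm_num) hs').2 hcm
      · intro s hs s' hs' e
        exact L.inj s (List.mem_range.1 (List.mem_filter.1 (List.mem_toFinset.1 hs)).1) s'
          (List.mem_range.1 (List.mem_filter.1 (List.mem_toFinset.1 hs')).1) (mul_left_cancel (mul_right_cancel e))
      · intro z hz
        simp only [C, Set.Finite.mem_toFinset, Set.mem_inter_iff, Set.mem_setOf_eq] at hz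
        obtain ⟨⟨hzD, hzx, hzc⟩, -, hzy, hzyc⟩ := hz
        obtain ⟨s, hs, e⟩ := L.surj ((k * g) * z * (k * g)⁻¹) ⟨B.grp.2.1 _ z hzD,
          fun e => hzx (mul_left_cancel (mul_right_cancel (e.trans hxa.symm))),
          by rw [← hxa, commute_conj_iff]; exact hzc⟩
        refine ⟨s, List.mem_toFinset.2 (List.mem_filter.2 ⟨List.mem_range.2 hs, ?_⟩), by rw [e]; group⟩
        refine adj_iff.2 ⟨fun e0 => hzy ?_, ?_⟩
        · exact mul_left_cancel (mul_right_cancel (e.symm.trans (by rw [← e0, hy0])))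
        · rw [← L.commute_iff (by norm_num) hs, e, ← hy0, commute_conj_iff]; exact hzyc
    rw [h180, List.toFinset_card_of_nodup ((List.nodup_range).filter _), card_perp]
  let S : Finset (Σ _ : G, Σ _ : G, G) := (Set.toFinite D).toFinset.sigma fun x => (N x).sigma (C x)
  have hS : (triples D).ncard = S.card := by
    rw [← Set.ncard_coe_finset]
    symm
    refine Set.ncard_congr (fun p _ => [p.1, p.2.1, p.2.2]) ?_ ?_ ?_
    · rintro ⟨x, y, z⟩ hp
      simp only [S, N, C, Finset.mem_coe, Finset.mem_sigma, Set.Finite.mem_toFinset, Set.mem_inter_iff,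
        Set.mem_setOf_eq] at hp
      obtain ⟨hx, hy, ⟨hz, hzx, hcz⟩, -, hzy, hcyz⟩ := hp
      refine ⟨⟨?_, ?_, ?_⟩, rfl⟩
      · simp [Ne.symm hy.2.1, Ne.symm hzx, Ne.symm hzy]
      · simp [hx, hy.1, hz]
      · simp only [List.mem_cons, List.not_mem_nil, or_false]
        rintro p (rfl | rfl | rfl) q (rfl | rfl | rfl)
        exacts [Commute.refl _, hy.2.2, hcz, hy.2.2.symm, Commute.refl _, hcyz, hcz.symm, hcyz.symm, Commute.refl _]
    · rintro ⟨x, y, z⟩ ⟨x', y', z'⟩ _ _ e
      simp only [List.cons.injEq, and_true] at e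
      obtain ⟨rfl, rfl, rfl⟩ := e
      rfl
    · rintro l ⟨hl, hlen⟩
      match l, hlen with
      | [x, y, z], _ =>
        have hn := hl.nodup
        simp only [List.nodup_cons, List.mem_cons, List.not_mem_nil, or_false, not_or] at hn
        refine ⟨⟨x, y, z⟩, ?_, rfl⟩
        simp only [S, N, C, Finset.mem_coe, Finset.mem_sigma, Set.Finite.mem_toFinset, Set.mem_inter_iff,
          Set.mem_setOf_eq]
        exact ⟨hl.mem x (by simp), ⟨hl.mem y (by simp), Ne.symm hn.1.1, hl.comm x (by simp) y (by simp)⟩,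
          ⟨hl.mem z (by simp), Ne.symm hn.1.2, hl.comm x (by simp) z (by simp)⟩,
          hl.mem z (by simp), Ne.symm hn.2.1, hl.comm y (by simp) z (by simp)⟩
  rw [hS, Set.ncard_eq_toFinset_card D, Finset.card_sigma]
  rw [Finset.sum_congr rfl fun x hx => ?_, Finset.sum_const, smul_eq_mul]
  rw [Finset.card_sigma, Finset.sum_congr rfl fun y hy => hC x ((Set.Finite.mem_toFinset _).1 hx) y hy,
    Finset.sum_const, hN x ((Set.Finite.mem_toFinset _).1 hx), smul_eq_mul]

/-- The number of members. -/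
theorem card_class (B : Base D a) : D.ncard = 3510 ∧ Nat.card G = 64561751654400 := by
  obtain ⟨e, -, he⟩ := identify B
  refine ⟨?_, ?_⟩
  · rw [← he, Set.ncard_image_of_injective _ e.injective, ← Nat.card_coe_set_eq]
    exact CfsgLib.Recog.SporBound.Fi22U6.realization.2.1
  · rw [← Nat.card_congr e.toEquiv]
    exact CfsgLib.Recog.SporBound.Fi22Group.card_and_faithful.1

/-- All products of commuting triples are conjugate. -/
theorem triple_conj (B : Base D a) {l l' : List G} (h : l ∈ triples D) (h' : l' ∈ triples D) :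
    ∃ g : G, l.map (MulAut.conj g) = l' := by
  obtain ⟨lab, L⟩ := B.exists_labelled
  obtain ⟨hl, hlen⟩ := h
  obtain ⟨hl', hlen'⟩ := h'
  match l, hlen, l', hlen' with
  | [x, y, z], _, [x', y', z'], _ =>
    obtain ⟨g, hg⟩ := triples_transitive B L hl
    obtain ⟨g', hg'⟩ := triples_transitive B L hl'
    refine ⟨g'⁻¹ * g, ?_⟩
    simp only [List.map_cons, List.map_nil, List.cons.injEq, and_true, MulAut.conj_apply] at hg hg' ⊢
    obtain ⟨a1, a2, a3⟩ := hg
    obtain ⟨b1, b2, b3⟩ := hg'
    refine ⟨?_, ?_, ?_⟩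
    · calc g'⁻¹ * g * x * (g'⁻¹ * g)⁻¹ = g'⁻¹ * (g * x * g⁻¹) * g' := by group
        _ = x' := by rw [a1, ← b1]; group
    · calc g'⁻¹ * g * y * (g'⁻¹ * g)⁻¹ = g'⁻¹ * (g * y * g⁻¹) * g' := by group
        _ = y' := by rw [a2, ← b2]; group
    · calc g'⁻¹ * g * z * (g'⁻¹ * g)⁻¹ = g'⁻¹ * (g * z * g⁻¹) * g' := by group
        _ = z' := by rw [a3, ← b3]; group

/-- The lists of three members with the product of a given triple. -/
theorem card_fibre (hD : IsThreeTranspositionGroup D) (hprim : IsPrimitiveUnderConj D) (d₀ : G) (hd₀ : d₀ ∈ D)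
    (h3 : Cfsg.pCore 3 ↥(Subgroup.closure (nbrs D d₀)) ≤ Subgroup.center ↥(Subgroup.closure (nbrs D d₀)))
    (h2 : Cfsg.pCore 2 ↥(Subgroup.closure (nbrs D d₀)) ≤ Subgroup.center ↥(Subgroup.closure (nbrs D d₀)))
    (h22 : IsOfTypeM22 G D) {l₀ : List G} (h : l₀ ∈ triples D) :
    {l | l ∈ triples D ∧ l.prod = l₀.prod}.ncard = 12 := by
  classical
  obtain ⟨l₁, l₂, ⟨n₁, k₁, m₁, c₁, p₁⟩, ⟨n₂, k₂, m₂, c₂, p₂⟩, hne, hall⟩ :=
    (Cfsg.Agent.S5463.result hD hprim d₀ hd₀ h3 h2 h22).2 l₀.prod l₀ ⟨h.1.nodup, h.2, h.1.mem, h.1.comm, rfl⟩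
  have heq : {l | l ∈ triples D ∧ l.prod = l₀.prod} =
      ↑(l₁.permutations.toFinset ∪ l₂.permutations.toFinset) := by
    ext l
    simp only [Finset.coe_union, Set.mem_union, Finset.mem_coe, List.mem_toFinset, List.mem_permutations,
      Set.mem_setOf_eq]
    constructor
    · rintro ⟨⟨hl, hlen⟩, hp⟩
      rcases hall l ⟨hl.nodup, hlen, hl.mem, hl.comm, hp⟩ with e | e
      · exact Or.inl ((List.perm_ext_iff_of_nodup hl.nodup n₁).2 e)
      · exact Or.inr ((List.perm_ext_iff_of_nodup hl.nodup n₂).2 e)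
    · have key : ∀ {m : List G}, ComList D m → m.length = 3 → m.prod = l₀.prod → l.Perm m →
          (l ∈ triples D) ∧ l.prod = l₀.prod := fun {m} hm hk hp e =>
        ⟨⟨hm.sub (e.nodup_iff.2 hm.nodup) fun x hx => e.subset hx, e.length_eq.trans hk⟩,
          (hm.prod_perm e.symm).trans hp⟩
      rintro (e | e)
      · exact key ⟨n₁, m₁, c₁⟩ k₁ p₁ e
      · exact key ⟨n₂, m₂, c₂⟩ k₂ p₂ e
  rw [heq, Set.ncard_coe_finset, Finset.card_union_of_disjoint ?_,
    List.toFinset_card_of_nodup (List.nodup_permutations _ n₁), List.toFinset_card_of_nodup (List.nodup_permutations _ n₂),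
    List.length_permutations, List.length_permutations, k₁, k₂]
  · rfl
  · rw [Finset.disjoint_left]
    intro l hl1 hl2
    rw [List.mem_toFinset, List.mem_permutations] at hl1 hl2
    exact hne fun x => by rw [← hl1.mem_iff, hl2.mem_iff]

/-- The centralizer of a product of a commuting triple. -/
theorem card_centralizer (hD : IsThreeTranspositionGroup D) (hprim : IsPrimitiveUnderConj D) (d₀ : G) (hd₀ : d₀ ∈ D)
    (h3 : Cfsg.pCore 3 ↥(Subgroup.closure (nbrs D d₀)) ≤ Subgroup.center ↥(Subgroup.closure (nbrs D d₀)))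
    (h2 : Cfsg.pCore 2 ↥(Subgroup.closure (nbrs D d₀)) ≤ Subgroup.center ↥(Subgroup.closure (nbrs D d₀)))
    (h22 : IsOfTypeM22 G D) {l₀ : List G} (h : l₀ ∈ triples D) :
    Nat.card ↥(Subgroup.centralizer ({l₀.prod} : Set G)) = 2 ^ 16 * 3 ^ 3 := by
  classical
  have : Fintype G := Fintype.ofFinite G
  obtain ⟨a, ⟨B⟩⟩ := exists_base hD hprim h22
  obtain ⟨lab, L⟩ := B.exists_labelled
  set j := l₀.prod
  have himg : List.prod '' triples D = conjugatesOf j := by
    ext x
    constructor
    · rintro ⟨l, hl, rfl⟩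
      obtain ⟨g, hg⟩ := triple_conj B h hl
      exact isConj_iff.2 ⟨g, by rw [← hg, ← map_list_prod, MulAut.conj_apply]⟩
    · intro hx
      obtain ⟨g, rfl⟩ := isConj_iff.1 hx
      exact ⟨_, ⟨h.1.conj hD.2.1 g, by simp [h.2]⟩, by rw [← map_list_prod, MulAut.conj_apply]⟩
  have hcount : (triples D).ncard = (conjugatesOf j).ncard * 12 := by
    have hf : (triples D).Finite := by
      refine Set.Finite.subset (List.finite_length_eq G 3) fun l hl => hl.2
    rw [Set.ncard_eq_toFinset_card _ hf, Finset.card_eq_sum_card_image List.prod]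
    have hi : hf.toFinset.image List.prod = (Set.toFinite (conjugatesOf j)).toFinset := by
      ext x; simp [← himg]
    rw [hi, Finset.sum_const_nat (m := 12), Set.ncard_eq_toFinset_card _ (Set.toFinite _)]
    intro x hx
    rw [Set.Finite.mem_toFinset, ← himg] at hx
    obtain ⟨l, hl, rfl⟩ := hx
    rw [← card_fibre hD hprim d₀ hd₀ h3 h2 h22 hl,
      ← Set.ncard_coe_finset (s := hf.toFinset.filter fun l' => l'.prod = l.prod)]
    congr 1
    ext l'; simp
  obtain ⟨h3510, hG⟩ := card_class B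
  rw [card_triples B L, h3510] at hcount
  have horb : (conjugatesOf j).ncard * Nat.card ↥(Subgroup.centralizer ({j} : Set G)) = Nat.card G := by
    have h1 := MulAction.index_stabilizer (ConjAct G) j
    have e1 : MulAction.orbit (ConjAct G) j = conjugatesOf j := by
      ext x
      rw [ConjAct.mem_orbit_conjAct]
      exact isConj_comm
    have e2 : (MulAction.stabilizer (ConjAct G) j).index = (Subgroup.centralizer ({j} : Set G)).index := by
      rw [ConjAct.stabilizer_eq_centralizer]
      rfl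
    rw [e1, e2] at h1
    rw [← h1, Subgroup.index_mul_card]
  rw [hG] at horb
  have hc : (conjugatesOf j).ncard = 36486450 := by omega
  rw [hc] at horb
  omega

end CfsgLib.Recog.FiM22.Factor
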