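import Cfsg.Agent.Lib.Recog.FiM22.Factor.Section
import Cfsg.Agent.Lib.Recog.FiM22.Factor.Line
import Cfsg.Agent.Lib.Recog.FiM22.Factor.ModThree
import Cfsg.Agent.Lib.Recog.FiM22.Factor.Transport

set_option autoImplicit false
set_option maxRecDepth 20000

/-!
A set of 3-transpositions of type M(22) is one class, separated, and has no short relations, without assuming
primitivity (owner: helper16).
-/

namespace CfsgLib.Recog.FiM22.Factor

open Cfsg CfsgLib.ThreeTrans CfsgLib.Recog.SporBound.Fi22U6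

universe u

theorem exists_noncom (r : ℕ) (hr : r < 693) : ∃ t < 693, ¬ Commute (T r) (T t) := by
  by_contra hno
  push Not at hno
  have h' : ∀ r' < 693, r' = r := fun r' hr' =>
    (double_perp hr' hr fun t ht _ _ => (com_iff hr ht).2 (hno t ht)).symm
  exact absurd ((h' 0 (by norm_num)).trans (h' 1 (by norm_num)).symm) (by norm_num)

theorem center_Q6 : Subgroup.center Q6 = ⊥ := by
  haveI : IsSimpleGroup Q6 := CfsgLib.Classical.Herm.isSimpleGroup_PSU' F4.card 6 (by norm_num) (by norm_num)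
  rcases (inferInstance : (Subgroup.center Q6).Normal).eq_bot_or_eq_top with h | h
  · exact h
  · exfalso
    obtain ⟨t, -, hn⟩ := exists_noncom 0 (by norm_num)
    exact hn (Subgroup.mem_center_iff.1 (h ▸ Subgroup.mem_top (T t) : T t ∈ Subgroup.center Q6) (T 0))

theorem closure_diff_one {G : Type*} [Group G] (S : Set G) : Subgroup.closure (S \ {1}) = Subgroup.closure S := by
  refine le_antisymm (Subgroup.closure_mono Set.sdiff_subset) ((Subgroup.closure_le _).2 fun x hx => ?_)
  by_cases h : x = 1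
  · subst h; exact one_mem _
  · exact Subgroup.subset_closure ⟨hx, h⟩

/-- Equal subgroups have isomorphic central quotients. -/
theorem equiv_of_eq {G : Type*} [Group G] {A B : Subgroup G} (h : A = B) :
    Nonempty ((↥A ⧸ Subgroup.center ↥A) ≃* (↥B ⧸ Subgroup.center ↥B)) := by
  subst h; exact ⟨MulEquiv.refl _⟩

/-- The facts used from the type. -/
structure Pre {G : Type u} [Group G] (E : Set G) (a c : G) where
  grp : IsThreeTranspositionGroup E
  centre : Subgroup.center G = ⊥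
  mema : a ∈ E
  memc : c ∈ E
  far : ¬ Commute a c
  iso : SecG E a ≃* Q6
  eleven : ¬ 11 ∣ Nat.card (↥(Subgroup.closure (nb E a ∩ nb E c)) ⧸ Subgroup.center ↥(Subgroup.closure (nb E a ∩ nb E c)))

theorem exists_pre {G : Type u} [Group G] {E : Set G} (h : IsOfTypeM22 G E)
    (hgrp : IsThreeTranspositionGroup (E \ {1})) : ∃ a c, Nonempty (Pre (E \ {1}) a c) := by
  obtain ⟨hZ, a, ha, c, hc, hac, ⟨F, iF, iF', hF, ⟨e⟩⟩, c₃, -, hL⟩ := h
  have hne : ∀ {x : G}, ¬ Commute a x → x ≠ 1 := fun hn e => hn (e ▸ Commute.one_right a)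
  have ha1 : a ≠ 1 := fun e' => hac (e' ▸ Commute.one_left c)
  have hset : ∀ x : G, nb (E \ {1}) x = {y : G | y ∈ E ∧ y ≠ x ∧ Commute x y} \ {1} := fun x => by
    ext y; simp only [nb, Set.mem_setOf_eq, Set.mem_sdiff, Set.mem_singleton_iff]; tauto
  have h1 : Subgroup.closure (nb (E \ {1}) a) = Subgroup.closure {y : G | y ∈ E ∧ y ≠ a ∧ Commute a y} := by
    rw [hset, closure_diff_one]
  have h2 : Subgroup.closure (nb (E \ {1}) a ∩ nb (E \ {1}) c) = Subgroup.closure
      ({y : G | y ∈ E ∧ y ≠ a ∧ Commute a y} ∩ {y : G | y ∈ E ∧ y ≠ c ∧ Commute c y}) := by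
    rw [← closure_diff_one ({y : G | y ∈ E ∧ y ≠ a ∧ Commute a y} ∩ _)]
    congr 1
    rw [hset, hset]
    ext y; simp only [Set.mem_inter_iff, Set.mem_sdiff, Set.mem_singleton_iff]; tauto
  obtain ⟨φ⟩ := equiv_of_eq h1
  obtain ⟨ψ⟩ := equiv_of_eq h2
  obtain ⟨χ⟩ := @exists_psu_equiv F iF iF' hF
  refine ⟨a, c, ⟨⟨hgrp, hZ, ⟨ha, ha1⟩, ⟨hc, hne hac⟩, hac, φ.trans (e.trans χ.symm), ?_⟩⟩⟩
  rw [Nat.card_congr ψ.toEquiv]
  exact not_dvd_of_projRefl hL

namespace Pre

variable {G : Type u} [Group G] [Finite G] {E : Set G} {a c : G} (P : Pre E a c)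
include P

theorem img_T {e : G} (he : Noncentral E a e) : ∃ r < 693, P.iso (im he.1) = T r := by
  have hsq : P.iso (im he.1) * P.iso (im he.1) = 1 := by rw [← map_mul, im_mul_self P.grp.1, map_one]
  rcases involution_cases hsq (fun h => he.im_ne_one (P.iso.map_eq_one_iff.1 h)) with h | ⟨y, hy⟩
  · exact h
  exfalso
  obtain ⟨g, rfl⟩ := P.iso.surjective y
  have hS := secGrp (d := a) P.grp
  refine hy ?_
  rw [← map_inv, ← map_mul, ← map_mul, ← map_mul, ← map_pow, ← map_pow, P.iso.map_eq_one_iff,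
    P.iso.map_eq_one_iff]
  exact hS.1.2 _ (im_mem he) _ (hS.2.1 g _ (im_mem he))

theorem closed_all (X : ℕ → Prop) {r₀ : ℕ} (hr₀ : r₀ < 693) (h₀ : X r₀)
    (hstep : ∀ s < 693, ∀ t < 693, X t → X (mul s t)) : ∀ r < 693, X r := by
  have happ : ∀ (w : List ℕ), (∀ s ∈ w, s < 693) → ∀ t < 693, X t → X (app w t) := by
    intro w
    induction w with
    | nil => exact fun _ t _ h => h
    | cons s w ih =>
      intro hw t ht h
      have hw' : ∀ s ∈ w, s < 693 := fun x hx => hw x (List.mem_cons_of_mem _ hx)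
      exact hstep s (hw s List.mem_cons_self) _ ((isAut_app hw').lt t ht) (ih hw' t ht h)
  have hback : ∀ (w : List ℕ), (∀ s ∈ w, s < 693) → ∀ t < 693, X (app w t) → X t := by
    intro w
    induction w with
    | nil => exact fun _ t _ h => h
    | cons s w ih =>
      intro hw t ht h
      have hw' : ∀ s ∈ w, s < 693 := fun x hx => hw x (List.mem_cons_of_mem _ hx)
      refine ih hw' t ht ?_
      have hs := hw s List.mem_cons_self
      have hlt := (isAut_app hw').lt t ht
      have := hstep s hs _ (mul_lt hs hlt) h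
      rwa [mul_mul_self hs hlt] at this
  obtain ⟨hx, hh, hword⟩ := word_spec hr₀
  have hx0 : X (gensL.getD (wordX r₀) 0) := by
    refine hback ((wordH r₀).map fun j => gensL.getD j 0) ?_ _ (gens_lt hx) (by rw [hword]; exact h₀)
    intro s hs
    obtain ⟨j, hj, rfl⟩ := List.mem_map.1 hs
    exact gens_lt (hh j hj)
  have h0 : X 0 := by
    have := happ _ (zero_spec hx).1 _ (gens_lt hx) hx0
    rwa [(zero_spec hx).2] at this
  intro r hr
  refine point_induction (P := X) (fun j hj => ?_) (fun j hj t ht h => hstep _ (gens_lt hj) t ht h) hr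
  refine hback _ (zero_spec hj).1 _ (gens_lt hj) ?_
  rw [(zero_spec hj).2]
  exact h0

theorem conj_nb {h e : G} (hh : h ∈ Subgroup.closure (nb E a)) (he : e ∈ nb E a) : h * e * h⁻¹ ∈ nb E a := by
  have hc : Commute a h := RankThree.commute_closure (fun _ hz => hz.2.2) hh
  have ha : h * a * h⁻¹ = a := by rw [← hc.eq, mul_inv_cancel_right]
  refine ⟨P.grp.2.1 h e he.1, fun eq => he.2.1 (mul_left_cancel (mul_right_cancel (eq.trans ha.symm))), ?_⟩
  have := (commute_conj_iff (g := h)).2 he.2.2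
  rwa [ha] at this

/-- A conjugation invariant kind of noncentral neighbour covers every point. -/
theorem cover (K : G → Prop) (hK : ∀ (g x : G), K x → K (g * x * g⁻¹)) {e : G} (he : Noncentral E a e) (hKe : K e) :
    ∀ r < 693, ∃ (f : G) (hf : Noncentral E a f), K f ∧ P.iso (im hf.1) = T r := by
  obtain ⟨r₀, hr₀, h₀⟩ := P.img_T he
  refine P.closed_all _ hr₀ ⟨e, he, hKe, h₀⟩ ?_
  rintro s hs t ht ⟨f, hf, hKf, hft⟩
  obtain ⟨g, hg⟩ := P.iso.surjective (T s)
  obtain ⟨⟨k, hk⟩, rfl⟩ := QuotientGroup.mk_surjective g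
  have hm := P.conj_nb hk hf.1
  have himg : P.iso (im hm) = T (mul s t) := by
    rw [← T_conj hs ht, ← hg, ← hft, ← map_inv, ← map_mul, ← map_mul]
    rfl
  refine ⟨k * f * k⁻¹, noncentral_of_im_ne_one hm fun h1 => ?_, hK k f hKf, himg⟩
  exact T_ne_one (mul_lt hs ht) (by rw [← himg, h1, map_one])

theorem exists_noncentral : ∃ e, Noncentral E a e := by
  by_contra hno
  push Not at hno
  obtain ⟨g, hg⟩ := P.iso.surjective (T 0)
  have hall : ∀ x : SecG E a, x = 1 := by
    intro x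
    have hx : x ∈ Subgroup.closure (secSet E a \ {1}) := (secGrp P.grp).2.2 ▸ Subgroup.mem_top x
    rw [show secSet E a \ {1} = ∅ from Set.eq_empty_iff_forall_notMem.2 fun q hq => by
      obtain ⟨e, he, -⟩ := exists_of_mem_sec hq
      exact hno e he, Subgroup.closure_empty] at hx
    exact Subgroup.mem_bot.1 hx
  exact T_ne_one (r := 0) (by norm_num) (by rw [← hg, hall g, map_one])

/-- There is one class. -/
theorem transitive : Trans E := by
  refine ⟨P.grp, ?_⟩
  let C : G → Prop := fun x => ∃ g : G, g * a * g⁻¹ = x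
  suffices h : ∀ y ∈ E, C y by
    intro p hp q hq
    obtain ⟨g, rfl⟩ := h p hp
    obtain ⟨k, rfl⟩ := h q hq
    exact ⟨k * g⁻¹, by group⟩
  have hcl : ∀ (g x : G), C x → C (g * x * g⁻¹) := by
    rintro g _ ⟨k, rfl⟩; exact ⟨g * k, by group⟩
  have hcl' : ∀ (g x : G), ¬ C x → ¬ C (g * x * g⁻¹) := fun g x hx h => hx (by
    have := hcl g⁻¹ _ h
    simpa [mul_assoc] using this)
  have hcom : ∀ y ∈ E, ¬ C y → ∀ z ∈ E, C z → Commute y z := by
    intro y hy hn z hz hCz
    by_contra hnc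
    obtain ⟨g, hg, -⟩ := RankThree.pair_swap P.grp.1 hy hz hnc
    refine hn ?_
    have := hcl g⁻¹ z hCz
    rwa [← hg, show g⁻¹ * (g * y * g⁻¹) * g⁻¹⁻¹ = y by group] at this
  have hCa : C a := ⟨1, by simp⟩
  have hCc : C c := by
    obtain ⟨g, hg, -⟩ := RankThree.pair_swap P.grp.1 P.mema P.memc P.far
    exact ⟨g, hg⟩
  by_contra hno
  push Not at hno
  obtain ⟨y, hy, hCy⟩ := hno
  -- some member outside the class is a noncentral neighbour
  have hout : ∃ w, Noncentral E a w ∧ ¬ C w := by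
    by_contra hnone
    push Not at hnone
    have hcen : y ∈ Subgroup.center G := by
      rw [Subgroup.mem_center_iff]
      intro g
      refine (RankThree.commute_closure (T := E) (fun z hz => ?_) (P.grp.2.2 ▸ Subgroup.mem_top g)).eq.symm
      by_cases hCz : C z
      · exact hcom y hy hCy z hz hCz
      · have hnb : ∀ {x}, x ∈ E → ¬ C x → x ∈ nb E a := fun {x} hx hn =>
          ⟨hx, fun e => hn (e ▸ hCa), (hcom x hx hn a P.mema hCa).symm⟩
        by_contra hyz
        exact hCy (hnone y ⟨hnb hy hCy, z, hnb hz hCz, hyz⟩)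
    rw [P.centre, Subgroup.mem_bot] at hcen
    exact ne_one P.grp.1 hy hcen
  obtain ⟨w, hw, hCw⟩ := hout
  have hall : ∀ f, Noncentral E a f → ¬ C f := by
    intro f hf hCf
    obtain ⟨r, hr, hfr⟩ := P.img_T hf
    obtain ⟨t, ht, hn⟩ := exists_noncom r hr
    obtain ⟨f', hf', hCf', hft⟩ := P.cover (fun x => ¬ C x) hcl' hw hCw t ht
    refine hn ?_
    rw [← hfr, ← hft]
    exact (show Commute (im hf.1) (im hf'.1) from (im_commute P.grp.1 hf hf'.1).2
      (hcom f' hf'.1.1 hCf' f hf.1.1 hCf).symm).map P.iso.toMonoidHom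
  set M := Subgroup.closure (nb E a ∩ nb E c) with hM
  have hMH : M ≤ Subgroup.closure (nb E a) := Subgroup.closure_mono Set.inter_subset_left
  let φ : ↥M →* Q6 := P.iso.toMonoidHom.comp ((QuotientGroup.mk' _).comp (Subgroup.inclusion hMH))
  have hsurj : Function.Surjective φ := by
    rw [← MonoidHom.range_eq_top, eq_top_iff, ← closure_T, Subgroup.closure_le]
    rintro _ ⟨r, hr, rfl⟩
    obtain ⟨f, hf, -, hfr⟩ := P.cover (fun x => ¬ C x) hcl' hw hCw r hr
    have hn := hall f hf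
    have hfc : f ∈ nb E c := ⟨hf.1.1, fun e => hn (e ▸ hCc), (hcom f hf.1.1 hn c P.memc hCc).symm⟩
    exact ⟨⟨f, Subgroup.subset_closure ⟨hf.1, hfc⟩⟩, hfr⟩
  have hker : φ.ker = Subgroup.center ↥M := by
    refine le_antisymm (fun x hx => ?_) fun x hx => ?_
    · have h1 : (QuotientGroup.mk (Subgroup.inclusion hMH x) : SecG E a) = 1 := P.iso.map_eq_one_iff.1 hx
      rw [QuotientGroup.eq_one_iff, Subgroup.mem_center_iff] at h1
      rw [Subgroup.mem_center_iff]
      exact fun y => Subtype.ext (congrArg Subtype.val (h1 (Subgroup.inclusion hMH y)) :)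
    · have : φ x ∈ Subgroup.center Q6 := Subgroup.mem_center_iff.2 fun q => by
        obtain ⟨y, rfl⟩ := hsurj q
        rw [← map_mul, ← map_mul, Subgroup.mem_center_iff.1 hx y]
      rw [center_Q6] at this
      exact this
  refine P.eleven ?_
  rw [← hker, Nat.card_congr (QuotientGroup.quotientKerEquivOfSurjective φ hsurj).toEquiv]
  rw [show Q6 = Cfsg.PSU 6 F4 2 from rfl, card_psu]
  norm_num

theorem sep_sec : Sep (secSet E a \ {1}) := by
  intro p hp q hq h
  obtain ⟨e, he, rfl⟩ := exists_of_mem_sec hp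
  obtain ⟨f, hf, rfl⟩ := exists_of_mem_sec hq
  obtain ⟨r, hr, her⟩ := P.img_T he
  obtain ⟨s, hs, hfs⟩ := P.img_T hf
  refine P.iso.injective ?_
  rw [her, hfs]
  refine congrArg T (double_perp hr hs fun t ht _ hc => ?_).symm
  obtain ⟨g, hg, -, hgt⟩ := P.cover (fun _ => True) (fun _ _ _ => trivial) he trivial t ht
  have h1 : Commute (im hg.1) (im he.1) := by
    have := ((com_iff hr ht).1 hc).symm
    rw [← hgt, ← her] at this
    simpa using this.map P.iso.symm.toMonoidHom
  have h2 := ((h _ (im_mem hg)).1 h1).symm.map P.iso.toMonoidHom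
  rw [com_iff hs ht, ← hfs, ← hgt]
  exact h2

theorem noncentral {e : G} (he : e ∈ nb E a) : Noncentral E a e := by
  obtain ⟨f, hf⟩ := P.exists_noncentral
  exact noncentral_of_sep P.transitive P.mema P.sep_sec ⟨_, im_mem hf⟩ he

theorem sep : Sep E := sep_of_noncentral P.transitive P.mema fun _ he => P.noncentral he

theorem sec_rel {l : List (SecG E a)} (hl : ComList (secSet E a \ {1}) l) (h2 : 2 ≤ l.length) (h5 : l.length ≤ 5)
    (hp : l.prod = 1) : ∃ r s t₁ t₂ t₃, r < 693 ∧ s < 693 ∧ l.map P.iso = [T r, T s, T t₁, T t₂, T t₃] ∧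
      ∀ t ∈ [t₁, t₂, t₃], ∃ x : F4, x ≠ 0 ∧ T t = PV (vec (code r) + x • vec (code s)) := by
  have hex : ∀ q, q ∈ l → ∃ r < 693, P.iso q = T r := fun q hq => by
    obtain ⟨e, he, rfl⟩ := exists_of_mem_sec (hl.mem q hq)
    exact P.img_T he
  choose! f hf hfT using hex
  have hmap : (l.map f).map T = l.map P.iso := by
    rw [List.map_map]; exact List.map_congr_left fun q hq => (hfT q hq).symm
  obtain ⟨r, s, t₁, t₂, t₃, e, h⟩ := rel_points (rs := l.map f)
    (fun r hr => by obtain ⟨q, hq, rfl⟩ := List.mem_map.1 hr; exact hf q hq)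
    (hl.nodup.map_on fun p hp' q hq e => P.iso.injective (by rw [hfT p hp', hfT q hq, e]))
    (fun r hr s hs => by
      obtain ⟨p, hp', rfl⟩ := List.mem_map.1 hr
      obtain ⟨q, hq, rfl⟩ := List.mem_map.1 hs
      rw [← hfT p hp', ← hfT q hq]
      exact (hl.comm p hp' q hq).map P.iso.toMonoidHom)
    (by simpa using h2) (by simpa using h5) (by rw [hmap, ← map_list_prod, hp, map_one])
  have hlt : ∀ x ∈ l.map f, x < 693 := fun x hx => by
    obtain ⟨q, hq, rfl⟩ := List.mem_map.1 hx; exact hf q hq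
  refine ⟨r, s, t₁, t₂, t₃, hlt r (by simp [e]), hlt s (by simp [e]), by rw [← hmap, e]; rfl, h⟩

theorem noRel {k : ℕ} (h3 : 3 ≤ k) (h5 : k ≤ 5) : NoRel E k := by
  obtain ⟨j, rfl⟩ : ∃ j, k = j + 1 := ⟨k - 1, by omega⟩
  refine noRel_succ P.transitive P.mema (fun _ he => P.noncentral he) ?_
  intro l hl hlen hp
  obtain ⟨r, s, t₁, t₂, t₃, -, -, e, -⟩ := P.sec_rel hl (by omega) (by omega) hp
  have := congrArg List.length e
  simp [hlen] at this
  omega

end Pre

end CfsgLib.Recog.FiM22.Factor
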